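import Groth.Agent.NodePtLib.Quad

/-!
# Rigidity of quadratic points
-/

set_option autoImplicit false
set_option linter.unusedSectionVars false
set_option linter.style.haveILetI false

universe u

open IsLocalRing

noncomputable section

namespace Groth.Agent.NodePtLib.EtaleLocal

variable {C A : Type u} [CommRing C] [IsLocalRing C] [IsNoetherianRing C] [CommRing A] [IsLocalRing A]
  [_root_.IsReduced A]

theorem mul_mem_span_mul_of_quad {a b c x y : C} (ha : IsUnit a) (hxy : maximalIdeal C = Ideal.span {x, y})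
    (hq : qv a b c x y ∈ maximalIdeal C ^ 3) :
    maximalIdeal C * maximalIdeal C = Ideal.span {y} * maximalIdeal C := by
  set m := maximalIdeal C with hm
  have hx : x ∈ m := by rw [hxy]; exact Ideal.subset_span (Set.mem_insert _ _)
  have hy : y ∈ m := by rw [hxy]; exact Ideal.subset_span (Set.mem_insert_of_mem _ rfl)
  have hym : ∀ w ∈ m, y * w ∈ Ideal.span {y} * m := fun w hw =>
    Ideal.mul_mem_mul (Ideal.mem_span_singleton_self y) hw
  have hle : m * m ≤ Ideal.span {x * x} ⊔ Ideal.span {y} * m := by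
    conv_lhs => rw [hxy]
    rw [Ideal.span_pair_mul_span_pair, Ideal.span_le]
    rintro w (rfl | rfl | rfl | rfl)
    · exact Ideal.mem_sup_left (Ideal.mem_span_singleton_self _)
    · exact Ideal.mem_sup_right (mul_comm y x ▸ hym x hx)
    · exact Ideal.mem_sup_right (hym x hx)
    · exact Ideal.mem_sup_right (hym y hy)
  have h3 : m ^ 3 ≤ Ideal.span {x * x} * m ⊔ Ideal.span {y} * m := by
    rw [show m ^ 3 = m * m * m by ring]
    refine (Ideal.mul_mono_left hle).trans ?_
    rw [Ideal.sup_mul]
    exact sup_le_sup le_rfl (Ideal.mul_le_left)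
  obtain ⟨p, hp, q, hq', hpq⟩ := Submodule.mem_sup.1 (h3 hq)
  obtain ⟨μ, hμ, rfl⟩ := Ideal.mem_span_singleton_mul.1 hp
  obtain ⟨ν, hν, rfl⟩ := Ideal.mem_span_singleton_mul.1 hq'
  obtain ⟨w, hw⟩ : IsUnit (a - μ) := notMem_maximalIdeal.1 fun h =>
    (mem_maximalIdeal _).1 (by rw [show a = a - μ + μ by ring]; exact add_mem h hμ) ha
  have hxx : x * x ∈ Ideal.span {y} * m := by
    rw [show x * x = (↑w⁻¹ : C) * (y * (ν - b * x - c * y)) by
      simp only [qv] at hpq
      linear_combination -(↑w⁻¹ : C) * hpq - x * x * w.inv_mul + x * x * (↑w⁻¹ : C) * hw]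
    exact Ideal.mul_mem_left _ _ (hym _ (sub_mem (sub_mem hν (Ideal.mul_mem_left _ _ hx)) (Ideal.mul_mem_left _ _ hy)))
  exact le_antisymm (hle.trans (sup_le ((Ideal.span_singleton_le_iff_mem _).2 hxx) le_rfl))
    (Ideal.mul_mono_left ((Ideal.span_singleton_le_iff_mem _).2 hy))

theorem injective_of_quad_aux (π : C →+* A) (hπ : Function.Surjective π) {a b c x y : C} (ha : IsUnit a)
    (hxy : maximalIdeal C = Ideal.span {x, y}) (hq : qv a b c x y ∈ maximalIdeal C ^ 3)
    (hnp : ∀ z, maximalIdeal A ≠ Ideal.span {z}) : Function.Injective π := by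
  haveI : IsNoetherianRing A := isNoetherianRing_of_surjective C A π hπ
  have hm2 := mul_mem_span_mul_of_quad ha hxy hq
  set m := maximalIdeal C with hm
  have hy : y ∈ m := by rw [hxy]; exact Ideal.subset_span (Set.mem_insert_of_mem _ rfl)
  haveI : IsLocalHom π := IsLocalHom.of_surjective π hπ
  have hmA : maximalIdeal A = Ideal.span {π x, π y} := by
    rw [← Set.image_pair π x y, ← Ideal.map_span, ← hxy]
    refine le_antisymm (fun w hw => ?_) (Ideal.map_le_iff_le_comap.2 fun w hw => map_nonunit π w hw)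
    obtain ⟨w', rfl⟩ := hπ w
    refine Ideal.mem_map_of_mem π ?_
    by_contra hcon
    exact (mem_maximalIdeal _).1 hw ((notMem_maximalIdeal.1 hcon).map π)
  have hpow : ∀ n : ℕ, m ^ (n + 1) = Ideal.span {y ^ n} * m := fun n => by
    induction n with
    | zero => simp
    | succ n ih =>
      rw [pow_succ, ih, mul_assoc, hm2, ← mul_assoc, Ideal.span_singleton_mul_span_singleton, ← pow_succ]
  obtain ⟨z, hz, hzd⟩ := exists_nzd_of_reduced_local hnp
  have hyd : π y ∈ nonZeroDivisors A := by
    obtain ⟨z', rfl⟩ := hπ z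
    have hz' : z' ∈ m := by
      by_contra hcon
      exact (mem_maximalIdeal _).1 hz ((notMem_maximalIdeal.1 hcon).map π)
    obtain ⟨w, -, hw⟩ := Ideal.mem_span_singleton_mul.1 (hm2 ▸ Ideal.mul_mem_mul hz' hz' : z' * z' ∈ Ideal.span {y} * m)
    have h2 : π z' * π z' ∈ nonZeroDivisors A := mul_mem hzd hzd
    rw [← map_mul, ← hw, map_mul] at h2
    exact (mul_mem_nonZeroDivisors.1 h2).1
  rw [injective_iff_map_eq_zero]
  intro f hf
  have hall : ∀ n : ℕ, f ∈ m ^ (n + 1) := by
    intro n
    induction n with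
    | zero =>
      rw [zero_add, pow_one]
      by_contra hcon
      exact not_isUnit_zero (hf ▸ (notMem_maximalIdeal.1 hcon).map π)
    | succ n ih =>
      rw [hpow] at ih
      obtain ⟨g, hg, rfl⟩ := Ideal.mem_span_singleton_mul.1 ih
      rw [map_mul, map_pow] at hf
      have hg0 : π g = 0 := (mul_left_mem_nonZeroDivisors_eq_zero_iff (pow_mem hyd n)).1 hf
      rw [hxy] at hg
      obtain ⟨α, β, rfl⟩ := Ideal.mem_span_pair.1 hg
      rw [map_add, map_mul, map_mul] at hg0
      have hα : α ∈ m := by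
        by_contra hcon
        obtain ⟨e, he⟩ := (notMem_maximalIdeal.1 hcon).map π
        refine hnp (π y) (hmA.trans (le_antisymm (Ideal.span_le.2 ?_) (Ideal.span_mono (by simp))))
        rintro w (rfl | rfl)
        · exact Ideal.mem_span_singleton'.2 ⟨-((↑e⁻¹ : A) * π β), by
            linear_combination -(↑e⁻¹ : A) * hg0 + π x * e.inv_mul - π x * (↑e⁻¹ : A) * he⟩
        · exact Ideal.mem_span_singleton_self _
      have hβ : β ∈ m := by
        by_contra hcon
        obtain ⟨e, he⟩ := (notMem_maximalIdeal.1 hcon).map π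
        refine hnp (π x) (hmA.trans (le_antisymm (Ideal.span_le.2 ?_) (Ideal.span_mono (by simp))))
        rintro w (rfl | rfl)
        · exact Ideal.mem_span_singleton_self _
        · exact Ideal.mem_span_singleton'.2 ⟨-((↑e⁻¹ : A) * π α), by
            linear_combination -(↑e⁻¹ : A) * hg0 + π y * e.inv_mul - π y * (↑e⁻¹ : A) * he⟩
      rw [pow_succ, hpow, mul_assoc]
      exact Ideal.mul_mem_mul (Ideal.mem_span_singleton_self _) (add_mem
        (Ideal.mul_mem_mul hα (hxy ▸ Ideal.subset_span (Set.mem_insert _ _)))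
        (Ideal.mul_mem_mul hβ (hxy ▸ Ideal.subset_span (Set.mem_insert_of_mem _ rfl))))
  have hf' : f ∈ ⨅ n : ℕ, m ^ n := Ideal.mem_iInf.2 fun n => Ideal.pow_le_pow_right n.le_succ (hall n)
  rwa [Ideal.iInf_pow_eq_bot_of_isLocalRing _ (maximalIdeal.isMaximal _).ne_top, Ideal.mem_bot] at hf'

/-- A ring with a nondegenerate quadratic relation has no proper reduced non-principal quotient. -/
theorem injective_of_quad (π : C →+* A) (hπ : Function.Surjective π) {a b c x y : C}
    (hΔ : IsUnit (4 * a * c - b ^ 2)) (hxy : maximalIdeal C = Ideal.span {x, y})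
    (hq : qv a b c x y ∈ maximalIdeal C ^ 3) (hnp : ∀ z, maximalIdeal A ≠ Ideal.span {z}) : Function.Injective π := by
  by_cases ha : IsUnit a
  · exact injective_of_quad_aux π hπ ha hxy hq hnp
  by_cases hc : IsUnit c
  · exact injective_of_quad_aux π hπ (a := c) (b := b) (c := a) hc (hxy.trans (congrArg Ideal.span (Set.pair_comm x y)))
      (by rw [show qv c b a y x = qv a b c x y by simp only [qv]; ring]; exact hq) hnp
  refine injective_of_quad_aux π hπ (a := a + b + c) (b := b + 2 * c) (c := c) (x := x) (y := y - x) ?_ ?_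
    (by rw [show qv (a + b + c) (b + 2 * c) c x (y - x) = qv a b c x y by simp only [qv]; ring]; exact hq) hnp
  · rw [← notMem_maximalIdeal]
    intro hcon
    have ha' : a ∈ maximalIdeal C := (mem_maximalIdeal _).2 ha
    have hc' : c ∈ maximalIdeal C := (mem_maximalIdeal _).2 hc
    have hb : b ∈ maximalIdeal C := by
      rw [show b = a + b + c - a - c by ring]
      exact sub_mem (sub_mem hcon ha') hc'
    refine (mem_maximalIdeal _).1 ?_ hΔ
    rw [pow_two]
    exact sub_mem (Ideal.mul_mem_left _ _ hc') (Ideal.mul_mem_left _ _ hb)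
  · refine hxy.trans (le_antisymm (Ideal.span_le.2 ?_) (Ideal.span_le.2 ?_))
    · rintro w (rfl | rfl)
      · exact Ideal.subset_span (Set.mem_insert _ _)
      · exact Ideal.mem_span_pair.2 ⟨1, 1, by ring⟩
    · rintro w (rfl | rfl)
      · exact Ideal.subset_span (Set.mem_insert _ _)
      · exact Ideal.mem_span_pair.2 ⟨-1, 1, by ring⟩

end Groth.Agent.NodePtLib.EtaleLocal
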