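import Groth.Agent.NodePtLib.EtaleLocal.Coord
import Groth.Agent.NodePtLib.EtaleLocal.QuadInj
import Mathlib.RingTheory.Unramified.LocalStructure
import Mathlib.RingTheory.Flat.EquationalCriterion

/-!
# Charts at nodes of families
-/

set_option autoImplicit false
set_option backward.isDefEq.respectTransparency false
set_option linter.unusedSectionVars false
set_option linter.style.haveILetI false

universe u

open IsLocalRing TensorProduct KaehlerDifferential

noncomputable section

namespace Groth.Agent.NodePtLib.EtaleLocal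

/-- The kernel of a surjection onto a flat algebra meets an extended ideal in the product. -/
theorem inf_map_le_of_flat {R P B : Type u} [CommRing R] [CommRing P] [CommRing B] [Algebra R P] [Algebra R B]
    [Module.Flat R B] (π : P →ₐ[R] B) (hπ : Function.Surjective π) (q : Ideal R) :
    RingHom.ker π ⊓ q.map (algebraMap R P) ≤ q.map (algebraMap R P) * RingHom.ker π := by
  rintro f ⟨hfk, hfq⟩
  classical
  rw [Ideal.map, Ideal.span, SetLike.mem_coe, Submodule.mem_span_set'] at hfq
  obtain ⟨n, c, g, hg⟩ := hfq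
  choose r hr hrg using fun k => (g k).2
  have hrel : ∑ k, r k • π (c k) = 0 := by
    rw [← RingHom.mem_ker.1 hfk, ← hg, map_sum]
    refine Finset.sum_congr rfl fun k _ => ?_
    rw [smul_eq_mul, map_mul, ← hrg k, AlgHom.commutes, Algebra.smul_def, mul_comm]
  obtain ⟨m, a, y, hy, ha⟩ := Module.Flat.isTrivialRelation_of_sum_smul_eq_zero (R := R) (M := B) (f := r) (x := fun k => π (c k)) hrel
  choose y' hy' using fun j => hπ (y j)
  have e : f = ∑ k, algebraMap R P (r k) * (c k - ∑ j, algebraMap R P (a k j) * y' j) := by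
    simp only [mul_sub, Finset.sum_sub_distrib, Finset.mul_sum]
    rw [Finset.sum_comm, Finset.sum_eq_zero (f := fun j => ∑ k, algebraMap R P (r k) * (algebraMap R P (a k j) * y' j))
      fun j _ => by
        simp only [← mul_assoc, ← map_mul, ← Finset.sum_mul, ← map_sum, ha j, map_zero, zero_mul], sub_zero, ← hg]
    exact Finset.sum_congr rfl fun k _ => by rw [smul_eq_mul, ← hrg k, mul_comm]
  rw [e]
  refine Submodule.sum_mem _ fun k _ => Ideal.mul_mem_mul (Ideal.mem_map_of_mem _ (hr k)) ?_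
  rw [RingHom.mem_ker, map_sub, map_sum, show π (c k) = _ from hy k, sub_eq_zero]
  exact Finset.sum_congr rfl fun j _ => by rw [map_mul, AlgHom.commutes, hy', Algebra.smul_def]

/-- Derivations lower powers of ideals by one. -/
theorem derivation_mem_pow {R P : Type u} [CommRing R] [CommRing P] [Algebra R P] (d : Derivation R P P) (I : Ideal P)
    (n : ℕ) {x : P} (hx : x ∈ I ^ (n + 1)) : d x ∈ I ^ n := by
  induction n generalizing x with
  | zero => simp
  | succ n ih =>
    rw [pow_succ] at hx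
    refine Submodule.mul_induction_on hx (fun p hp w hw => ?_) (fun p w hp hw => by rw [map_add]; exact add_mem hp hw)
    rw [Derivation.leibniz, smul_eq_mul, smul_eq_mul]
    refine add_mem (Ideal.mul_mem_right _ _ hp) ?_
    rw [pow_succ']
    exact Ideal.mul_mem_mul hw (ih hp)

/-- Derivations preserve extended ideals. -/
theorem derivation_mem_map {R P : Type u} [CommRing R] [CommRing P] [Algebra R P] (d : Derivation R P P) (q : Ideal R)
    {x : P} (hx : x ∈ q.map (algebraMap R P)) : d x ∈ q.map (algebraMap R P) := by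
  induction hx using Submodule.span_induction with
  | zero => simp
  | mem x h =>
    obtain ⟨r, _, rfl⟩ := h
    rw [Derivation.map_algebraMap]
    exact zero_mem _
  | add x y _ _ hx hy => rw [map_add]; exact add_mem hx hy
  | smul a x hx' hx =>
    rw [smul_eq_mul, Derivation.leibniz, smul_eq_mul, smul_eq_mul]
    exact add_mem (Ideal.mul_mem_left _ _ hx) (Ideal.mul_mem_right _ _ hx')

/-- Unramifiedness at a point where the extended ideal is maximal. -/
theorem formallyUnramified_of_span {T A : Type u} [CommRing T] [CommRing A] [IsLocalRing A] [Algebra T A]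
    [Algebra.EssFiniteType T A] [Algebra.FormallyUnramified T (ResidueField A)]
    (H : ∃ s : Set T, Ideal.span (algebraMap T A '' s) = maximalIdeal A) : Algebra.FormallyUnramified T A := by
  obtain ⟨s, hs⟩ := H
  constructor
  rw [← subsingleton_tensorProduct (R := A)]
  refine subsingleton_of_forall_eq 0 fun x ↦ ?_
  obtain ⟨x, rfl⟩ := (KaehlerDifferential.exact_kerCotangentToTensor_mapBaseChange T A
    (ResidueField A) Ideal.Quotient.mk_surjective x).mp (Subsingleton.elim _ _)
  obtain ⟨⟨x, hx⟩, rfl⟩ := Ideal.toCotangent_surjective _ x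
  simp only [KaehlerDifferential.kerCotangentToTensor_toCotangent]
  replace hx : x ∈ Ideal.span (algebraMap T A '' s) := by simpa [hs] using hx
  induction hx using Submodule.span_induction with
  | zero => simp
  | mem x h => obtain ⟨x, hx, rfl⟩ := h; simp
  | add x y hx hy _ _ => simp [*, TensorProduct.tmul_add]
  | smul a x hx _ =>
    have : residue A x = 0 := by rwa [residue_eq_zero_iff, ← hs]
    simp [*, TensorProduct.tmul_add, TensorProduct.smul_tmul', ← Algebra.algebraMap_eq_smul_one]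

/-- The local data of a node of a family, on the level of rings. -/
def NodeData (R : Type u) {B : Type u} [CommRing R] [CommRing B] [Algebra R B] (𝔭 : Ideal B) [𝔭.IsPrime] : Prop :=
  Algebra.FormallyUnramified R (ResidueField (Localization.AtPrime 𝔭)) ∧
  ∃ (A : Type u) (_ : CommRing A) (_ : IsLocalRing A) (ρ : Localization.AtPrime 𝔭 →+* A), Function.Surjective ρ ∧
    RingHom.ker ρ = (𝔭.comap (algebraMap R B)).map (algebraMap R (Localization.AtPrime 𝔭)) ∧
    _root_.IsReduced A ∧ QuadPt A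

/-- A family near a node is cut out by one function with nondegenerate Hessian in a smooth surface. -/
theorem exists_chart {R B : Type u} [CommRing R] [CommRing B] [Algebra R B] [Algebra.FinitePresentation R B]
    [Module.Flat R B] (𝔭 : Ideal B) [𝔭.IsPrime] (hnode : NodeData R 𝔭) :
    ∃ (P : Type u) (_ : CommRing P) (_ : Algebra R P) (_ : Algebra.Smooth R P)
      (b : Module.Basis (Fin 2) P Ω[P⁄R]) (t : Fin 2 → P) (_ : ∀ i, b i = D R P (t i)) (F : P)
      (φ : B →ₐ[R] P ⧸ Ideal.span {F}) (Q : Ideal (P ⧸ Ideal.span {F})) (_ : Q.IsPrime),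
      φ.toRingHom.Etale ∧ Q.comap φ.toRingHom = 𝔭 ∧ (∀ i, Ideal.Quotient.mk _ (pd b i F) ∈ Q) ∧
      IsUnit (Matrix.of fun i j => pd b i (pd b j F)).det := by
  classical
  obtain ⟨hun, A, iA, lA, ρ, hρ, hker, hred, x, y, a, b₀, c, hxy, hnp, hΔ, hq3⟩ := hnode
  haveI := hred
  let Bp := Localization.AtPrime 𝔭
  let q : Ideal R := 𝔭.comap (algebraMap R B)
  have hρloc : IsLocalHom ρ := IsLocalHom.of_surjective ρ hρ
  -- coordinates
  have hlift : ∀ w ∈ maximalIdeal A, ∃ (e : A) (t : B), IsUnit e ∧ t ∈ 𝔭 ∧ w = e * ρ (algebraMap B Bp t) := by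
    intro w hw
    obtain ⟨w', rfl⟩ := hρ w
    obtain ⟨t, s, rfl⟩ := IsLocalization.exists_mk'_eq 𝔭.primeCompl w'
    refine ⟨ρ (IsLocalization.mk' Bp 1 s), t, ?_, ?_, ?_⟩
    · refine IsUnit.map ρ (IsUnit.of_mul_eq_one (algebraMap B Bp s) ?_)
      rw [IsLocalization.mk'_spec, map_one]
    · by_contra ht
      exact (mem_maximalIdeal _).1 hw (((IsLocalization.AtPrime.isUnit_mk'_iff Bp 𝔭 t s).2 ht).map ρ)
    · rw [← map_mul, mul_comm, ← IsLocalization.mk'_eq_mul_mk'_one]
  have hmap : (maximalIdeal Bp).map ρ = maximalIdeal A := by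
    refine le_antisymm (Ideal.map_le_iff_le_comap.2 fun w hw => map_nonunit ρ w hw) (fun w hw => ?_)
    obtain ⟨w', rfl⟩ := hρ w
    refine Ideal.mem_map_of_mem ρ ?_
    by_contra hcon
    exact (mem_maximalIdeal _).1 hw ((notMem_maximalIdeal.1 hcon).map ρ)
  obtain ⟨e1, t1, he1, ht1, rfl⟩ := hlift x (hxy.ge (Ideal.subset_span (Set.mem_insert _ _)))
  obtain ⟨e2, t2, he2, ht2, rfl⟩ := hlift y (hxy.ge (Ideal.subset_span (Set.mem_insert_of_mem _ rfl)))
  let x : A := ρ (algebraMap B Bp t1)
  let y : A := ρ (algebraMap B Bp t2)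
  have hxy' : maximalIdeal A = Ideal.span {x, y} := by
    rw [hxy, Ideal.span_insert, Ideal.span_insert, Ideal.span_singleton_mul_left_unit he1,
      Ideal.span_singleton_mul_left_unit he2]
  have hq' : qv (a * e1 ^ 2) (b₀ * (e1 * e2)) (c * e2 ^ 2) x y ∈ maximalIdeal A ^ 3 := by
    rw [show qv (a * e1 ^ 2) (b₀ * (e1 * e2)) (c * e2 ^ 2) x y =
      qv a b₀ c (e1 * x) (e2 * y) by simp only [qv]; ring]
    exact hq3
  have hΔ' : IsUnit (4 * (a * e1 ^ 2) * (c * e2 ^ 2) - (b₀ * (e1 * e2)) ^ 2) := by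
    rw [show 4 * (a * e1 ^ 2) * (c * e2 ^ 2) - (b₀ * (e1 * e2)) ^ 2 = (4 * a * c - b₀ ^ 2) * (e1 * e2) ^ 2 by ring]
    refine IsUnit.mul ?_ ((he1.mul he2).pow 2)
    exact residue_ne_zero_iff_isUnit _ |>.1 hΔ
  -- the polynomial ring and unramifiedness
  let T := MvPolynomial (Fin 2) R
  letI : Algebra T B := (MvPolynomial.aeval ![t1, t2] : T →ₐ[R] B).toRingHom.toAlgebra
  haveI : IsScalarTower R T B := IsScalarTower.of_algebraMap_eq fun r =>
    ((MvPolynomial.aeval ![t1, t2] : T →ₐ[R] B).commutes r).symm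
  letI : Algebra T Bp := inferInstance
  haveI : IsScalarTower R T Bp := IsScalarTower.to₁₂₄ R T B Bp
  haveI : Algebra.FiniteType T B := Algebra.FiniteType.of_restrictScalars_finiteType R T B
  have htX : ∀ i, algebraMap T B (MvPolynomial.X i) = ![t1, t2] i := fun i => MvPolynomial.aeval_X _ i
  haveI : Algebra.EssFiniteType T Bp := Algebra.EssFiniteType.comp T B Bp
  haveI := hun
  haveI : IsScalarTower R T (ResidueField Bp) := IsScalarTower.of_algebraMap_eq fun r => by
    rw [IsScalarTower.algebraMap_apply R Bp (ResidueField Bp), IsScalarTower.algebraMap_apply R T Bp,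
      ← IsScalarTower.algebraMap_apply T Bp (ResidueField Bp)]
  haveI : Algebra.FormallyUnramified T (ResidueField Bp) :=
    Algebra.FormallyUnramified.of_restrictScalars R T (ResidueField Bp)
  have hmB : maximalIdeal Bp =
      q.map (algebraMap R Bp) ⊔ Ideal.span {algebraMap B Bp t1, algebraMap B Bp t2} := by
    refine le_antisymm (fun w hw => ?_) (sup_le ?_ (Ideal.span_le.2 ?_))
    · have h1 : ρ w ∈ (Ideal.span {algebraMap B Bp t1, algebraMap B Bp t2}).map ρ := by
        rw [Ideal.map_span, Set.image_pair, ← hxy', ← hmap]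
        exact Ideal.mem_map_of_mem ρ hw
      obtain ⟨v, hv, hvw⟩ := (Ideal.mem_map_iff_of_surjective ρ hρ).1 h1
      exact Submodule.mem_sup.2 ⟨w - v, hker ▸ RingHom.mem_ker.2 (by rw [map_sub, hvw, sub_self]), v, hv,
        sub_add_cancel w v⟩
    · rw [Ideal.map_le_iff_le_comap]
      intro r hr
      rw [Ideal.mem_comap, IsScalarTower.algebraMap_apply R B Bp]
      exact (IsLocalization.AtPrime.to_map_mem_maximal_iff Bp 𝔭 _).2 hr
    · rintro _ (rfl | rfl)
      exacts [(IsLocalization.AtPrime.to_map_mem_maximal_iff Bp 𝔭 _).2 ht1,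
        (IsLocalization.AtPrime.to_map_mem_maximal_iff Bp 𝔭 _).2 ht2]
  haveI : Algebra.IsUnramifiedAt T 𝔭 := formallyUnramified_of_span
    ⟨algebraMap R T '' q ∪ Set.range MvPolynomial.X, by
      rw [hmB, Set.image_union, Ideal.span_union, ← Set.image_comp, ← RingHom.coe_comp,
        ← IsScalarTower.algebraMap_eq, ← Set.range_comp]
      refine congrArg₂ (· ⊔ ·) rfl ?_
      congr 1
      ext w
      have e : ∀ i, algebraMap T (Localization.AtPrime 𝔭) (MvPolynomial.X i) = algebraMap B Bp (![t1, t2] i) :=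
        fun i => by rw [IsScalarTower.algebraMap_apply T B, htX]
      simp only [Set.mem_range, Function.comp_apply, Set.mem_insert_iff, Set.mem_singleton_iff, Fin.exists_fin_two,
        e, Matrix.cons_val_zero, Matrix.cons_val_one, Matrix.cons_val_fin_one]
      exact ⟨fun h => h.imp Eq.symm Eq.symm, fun h => h.imp Eq.symm Eq.symm⟩⟩
  -- the étale neighbourhood
  obtain ⟨g, hg, S, π', hπ'⟩ := Algebra.IsUnramifiedAt.exists_hasStandardEtaleSurjectionOn (R := T) 𝔭
  let P := S.Ring
  letI : Algebra R P := ((algebraMap T P).comp (algebraMap R T)).toAlgebra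
  haveI : IsScalarTower R T P := IsScalarTower.of_algebraMap_eq' rfl
  let Bg := Localization.Away g
  haveI : IsScalarTower R T Bg := IsScalarTower.to₁₂₄ R T B Bg
  let π : P →ₐ[R] Bg := π'.restrictScalars R
  have hπ : Function.Surjective π := hπ'
  haveI : Algebra.FinitePresentation R Bg := Algebra.FinitePresentation.trans R B Bg
  haveI : Algebra.Smooth R T := ⟨inferInstance, inferInstance⟩
  haveI : Algebra.Smooth R P := Algebra.Smooth.comp R T P
  haveI : Algebra.FinitePresentation R P := inferInstance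
  let J : Ideal P := RingHom.ker π.toRingHom
  have hJ : J.FG := Algebra.FinitePresentation.ker_fG_of_surjective π hπ
  have hgu : IsUnit (algebraMap B Bp g) := IsLocalization.map_units Bp (⟨g, hg⟩ : 𝔭.primeCompl)
  let τ : Bg →ₐ[B] Bp := IsLocalization.Away.liftAlgHom (A := B) (f := Algebra.ofId B Bp) g hgu
  let θ : P →ₐ[R] Bp := (τ.restrictScalars R).comp π
  let 𝔓 : Ideal P := (maximalIdeal Bp).comap θ.toRingHom
  haveI : 𝔓.IsPrime := inferInstance
  let t : Fin 2 → P := fun i => algebraMap T P (MvPolynomial.X i)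
  have hθt : ∀ i, θ (t i) = algebraMap B Bp (![t1, t2] i) := fun i => by
    show τ (π' (algebraMap T P (MvPolynomial.X i))) = _
    rw [π'.commutes, IsScalarTower.algebraMap_apply T B Bg, τ.commutes, htX]
  obtain ⟨bP, hbP⟩ := exists_basis_of_etale_poly (R := R) (P := P) (ι := Fin 2)
  -- localisation at the point
  let Pp := Localization.AtPrime 𝔓
  have hunit : ∀ s : 𝔓.primeCompl, IsUnit (θ s) := fun s => notMem_maximalIdeal.1 s.2
  let θp : Pp →ₐ[R] Bp := IsLocalization.liftAlgHom (M := 𝔓.primeCompl) hunit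
  have hθp : ∀ p, θp (algebraMap P Pp p) = θ p := fun p => IsLocalization.lift_eq _ p
  have hθps : Function.Surjective θp := fun w => by
    obtain ⟨β, s, rfl⟩ := IsLocalization.exists_mk'_eq 𝔭.primeCompl w
    obtain ⟨p, hp⟩ := hπ (algebraMap B Bg β)
    obtain ⟨p', hp'⟩ := hπ (algebraMap B Bg s)
    have e : θ p = algebraMap B Bp β := by show τ (π p) = _; rw [hp, τ.commutes]
    have e' : θ p' = algebraMap B Bp s := by show τ (π p') = _; rw [hp', τ.commutes]
    have hp'P : p' ∈ 𝔓.primeCompl := fun h => (mem_maximalIdeal _).1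
      (show θ p' ∈ maximalIdeal Bp from h) (e' ▸ IsLocalization.map_units Bp s)
    refine ⟨IsLocalization.mk' Pp p ⟨p', hp'P⟩, ?_⟩
    refine (IsLocalization.eq_mk'_iff_mul_eq).2 ?_
    rw [← e', ← e, ← hθp, ← hθp, ← map_mul, IsLocalization.mk'_spec]
  have hθploc : IsLocalHom θp.toRingHom := IsLocalHom.of_surjective _ hθps
  have hkerP : RingHom.ker θp.toRingHom = J.map (algebraMap P Pp) := by
    refine le_antisymm (fun w hw => ?_) (Ideal.map_le_iff_le_comap.2 fun p hp => ?_)
    · obtain ⟨p, s, rfl⟩ := IsLocalization.exists_mk'_eq 𝔓.primeCompl w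
      have h0 : θ p = 0 := by
        rw [← hθp, ← IsLocalization.mk'_spec Pp p s, map_mul, show θp (IsLocalization.mk' Pp p s) = 0 from hw, zero_mul]
      obtain ⟨⟨β, _, n, rfl⟩, hβ⟩ := IsLocalization.surj (Submonoid.powers g) (π p)
      have hβ0 : algebraMap B Bp β = 0 := by
        rw [← τ.commutes β, ← hβ, map_mul, show τ (π p) = 0 from h0, zero_mul]
      obtain ⟨s', hs'⟩ := (IsLocalization.map_eq_zero_iff 𝔭.primeCompl Bp β).1 hβ0
      obtain ⟨p', hp'⟩ := hπ (algebraMap B Bg s')
      have hp'P : p' ∈ 𝔓.primeCompl := fun h => (mem_maximalIdeal _).1 (show θ p' ∈ maximalIdeal Bp from h) (by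
        show IsUnit (τ (π p'))
        rw [hp', τ.commutes]; exact IsLocalization.map_units Bp s')
      refine (IsLocalization.mem_map_algebraMap_iff 𝔓.primeCompl Pp).2
        ⟨(⟨p' * p, ?_⟩, ⟨p', hp'P⟩ * s), ?_⟩
      · show π (p' * p) = 0
        refine ((IsLocalization.map_units Bg (⟨g ^ n, n, rfl⟩ : Submonoid.powers g)).mul_left_eq_zero).1 ?_
        show π (p' * p) * algebraMap B Bg (g ^ n) = 0
        rw [map_mul, hp', mul_assoc]
        simp only at hβ
        rw [hβ, ← map_mul, hs', map_zero]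
      · show IsLocalization.mk' Pp p s * algebraMap P Pp (p' * s) = algebraMap P Pp (p' * p)
        rw [map_mul, map_mul, mul_left_comm, IsLocalization.mk'_spec]
    · show θp (algebraMap P Pp p) = 0
      rw [hθp]
      exact (congrArg τ (RingHom.mem_ker.1 hp)).trans (map_zero _)
  haveI : Module.Flat B Bp := IsLocalization.flat Bp 𝔭.primeCompl
  haveI : Module.Flat R Bp := Module.Flat.trans R B Bp
  -- the fibre at the point
  let qP : Ideal Pp := q.map (algebraMap R Pp)
  let O := Pp ⧸ qP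
  have hqPθ : qP.map θp.toRingHom = q.map (algebraMap R Bp) := by
    rw [Ideal.map_map]; congr 1; exact θp.comp_algebraMap
  have hqPle : qP ≤ maximalIdeal Pp := by
    intro w hw
    by_contra hcon
    refine (mem_maximalIdeal _).1 ?_ ((notMem_maximalIdeal.1 hcon).map θp.toRingHom)
    have h1 : q.map (algebraMap R Bp) ≤ maximalIdeal Bp := by rw [hmB]; exact le_sup_left
    exact h1 (hqPθ ▸ Ideal.mem_map_of_mem _ hw)
  haveI : Nontrivial O := Ideal.Quotient.nontrivial_iff.2 fun h =>
    (maximalIdeal.isMaximal Pp).ne_top (top_le_iff.1 (h ▸ hqPle))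
  haveI : IsLocalRing O := IsLocalRing.of_surjective' (Ideal.Quotient.mk qP) Ideal.Quotient.mk_surjective
  let ρP : O →+* A := Ideal.Quotient.lift qP (ρ.comp θp.toRingHom) fun w hw => by
    rw [RingHom.comp_apply, ← RingHom.mem_ker, hker, ← hqPθ]
    exact Ideal.mem_map_of_mem _ hw
  have hρP : Function.Surjective ρP := fun w => by
    obtain ⟨w, rfl⟩ := hρ w
    obtain ⟨w, rfl⟩ := hθps w
    exact ⟨Ideal.Quotient.mk _ w, rfl⟩
  let tt : Fin 2 → Pp := fun i => algebraMap P Pp (t i)
  have hmP : maximalIdeal Pp = qP ⊔ Ideal.span {tt 0, tt 1} := by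
    let w : Ideal Pp := qP ⊔ Ideal.span {tt 0, tt 1}
    have hwθ : w.map θp.toRingHom = maximalIdeal Bp := by
      rw [Ideal.map_sup, hqPθ, Ideal.map_span, Set.image_pair, hmB]
      refine congrArg _ (congrArg Ideal.span ?_)
      show ({θp (tt 0), θp (tt 1)} : Set Bp) = _
      rw [show θp (tt 0) = algebraMap B Bp t1 from (hθp _).trans (hθt 0),
        show θp (tt 1) = algebraMap B Bp t2 from (hθp _).trans (hθt 1)]
    haveI : Algebra.FormallyUnramified T Pp := Algebra.FormallyUnramified.comp T P Pp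
    haveI : Algebra.EssFiniteType T Pp := Algebra.EssFiniteType.comp T P Pp
    let 𝔮 : Ideal T := (maximalIdeal Pp).comap (algebraMap T Pp)
    have h𝔮 : 𝔮.map (algebraMap T Pp) ≤ w := by
      rw [Ideal.map_le_iff_le_comap]
      intro h hh
      obtain ⟨h', hh', e⟩ : ∃ h' ∈ Ideal.span (Set.range (MvPolynomial.X : Fin 2 → T)),
          h = h' + MvPolynomial.C (MvPolynomial.constantCoeff h) := by
        refine ⟨h - MvPolynomial.C (MvPolynomial.constantCoeff h), ?_, (sub_add_cancel _ _).symm⟩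
        clear hh
        induction h using MvPolynomial.induction_on with
        | C r => simp
        | add p p' hp hp' =>
          rw [map_add, map_add, add_sub_add_comm]
          exact add_mem hp hp'
        | mul_X p i _ =>
          rw [map_mul, MvPolynomial.constantCoeff_X, mul_zero, map_zero, sub_zero]
          exact Ideal.mul_mem_left _ _ (Ideal.subset_span (Set.mem_range_self i))
      have hX : algebraMap T Pp h' ∈ Ideal.span {tt 0, tt 1} := by
        have h1 := Ideal.mem_map_of_mem (algebraMap T Pp) hh'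
        rw [Ideal.map_span] at h1
        refine Ideal.span_mono ?_ h1
        rintro _ ⟨_, ⟨i, rfl⟩, rfl⟩
        rw [IsScalarTower.algebraMap_apply T P Pp]
        fin_cases i
        exacts [Set.mem_insert _ _, Set.mem_insert_of_mem _ rfl]
      rw [Ideal.mem_comap, e, map_add]
      refine add_mem (Ideal.mem_sup_right hX) (Ideal.mem_sup_left ?_)
      rw [← MvPolynomial.algebraMap_eq, ← IsScalarTower.algebraMap_apply R T Pp]
      refine Ideal.mem_map_of_mem _ ?_
      have hw : w ≤ maximalIdeal Pp := by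
        refine sup_le hqPle (Ideal.span_le.2 ?_)
        rintro z (rfl | rfl) <;> refine (IsLocalization.AtPrime.to_map_mem_maximal_iff Pp 𝔓 _).2 ?_ <;>
          show θ (t _) ∈ maximalIdeal Bp <;> rw [hθt]
        exacts [(IsLocalization.AtPrime.to_map_mem_maximal_iff Bp 𝔭 _).2 ht1,
          (IsLocalization.AtPrime.to_map_mem_maximal_iff Bp 𝔭 _).2 ht2]
      have h2 : algebraMap T Pp (algebraMap R T (MvPolynomial.constantCoeff h)) ∈ maximalIdeal Pp := by
        rw [MvPolynomial.algebraMap_eq, show MvPolynomial.C (MvPolynomial.constantCoeff h) = h - h' by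
          linear_combination -e, map_sub]
        exact sub_mem hh (hw (Ideal.mem_sup_right hX))
      rw [← IsScalarTower.algebraMap_apply R T Pp] at h2
      show algebraMap R B (MvPolynomial.constantCoeff h) ∈ 𝔭
      rw [← IsLocalization.AtPrime.to_map_mem_maximal_iff Bp 𝔭, ← IsScalarTower.algebraMap_apply R B Bp,
        ← θp.commutes]
      exact map_nonunit θp.toRingHom _ h2
    refine le_antisymm ?_ ?_
    · haveI : 𝔮.IsPrime := Ideal.IsPrime.comap _
      let Tq := Localization.AtPrime 𝔮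
      letI : Algebra Tq Pp := (IsLocalization.lift (M := 𝔮.primeCompl) (g := algebraMap T Pp)
        fun s => notMem_maximalIdeal.1 s.2).toAlgebra
      haveI : IsScalarTower T Tq Pp := IsScalarTower.of_algebraMap_eq fun s => (IsLocalization.lift_eq _ s).symm
      haveI : IsLocalHom (algebraMap Tq Pp) := ((local_hom_TFAE _).out 2 0).1 (by
        rw [← Localization.AtPrime.map_eq_maximalIdeal, Ideal.map_map, ← IsScalarTower.algebraMap_eq]
        exact Ideal.map_comap_le)
      haveI : Algebra.FormallyUnramified Tq Pp := Algebra.FormallyUnramified.of_restrictScalars T Tq Pp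
      haveI : Algebra.EssFiniteType Tq Pp := Algebra.EssFiniteType.of_comp T Tq Pp
      rw [← Algebra.FormallyUnramified.map_maximalIdeal (R := Tq) (S := Pp),
        ← Localization.AtPrime.map_eq_maximalIdeal, Ideal.map_map, ← IsScalarTower.algebraMap_eq]
      exact h𝔮
    · intro z hz
      by_contra hcon
      exact (mem_maximalIdeal _).1 (hwθ ▸ Ideal.mem_map_of_mem _ hz) ((notMem_maximalIdeal.1 hcon).map θp.toRingHom)
  -- noetherianity of the fibre
  haveI : q.IsPrime := Ideal.IsPrime.comap _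
  haveI : Algebra.EssFiniteType R Pp := Algebra.EssFiniteType.comp R P Pp
  haveI : Algebra.EssFiniteType R O := inferInstance
  let k := ResidueField (Localization.AtPrime q)
  let ιk : k →+* O := Ideal.Quotient.lift _ ((Ideal.Quotient.mk qP).comp (IsLocalization.lift
      (M := q.primeCompl) (g := algebraMap R Pp) fun s => notMem_maximalIdeal.1 fun h => s.2 (by
        show algebraMap R B (s : R) ∈ 𝔭
        rw [← IsLocalization.AtPrime.to_map_mem_maximal_iff Bp 𝔭, ← IsScalarTower.algebraMap_apply R B Bp,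
          ← θp.commutes]
        exact map_nonunit θp.toRingHom _ h))) (fun w hw => by
    obtain ⟨r, s, rfl⟩ := IsLocalization.exists_mk'_eq q.primeCompl w
    rw [RingHom.comp_apply, Ideal.Quotient.eq_zero_iff_mem, IsLocalization.lift_mk']
    exact Ideal.mul_mem_right _ _ (Ideal.mem_map_of_mem _
      ((IsLocalization.AtPrime.mk'_mem_maximal_iff _ q r s).1 hw)))
  letI : Algebra k O := ιk.toAlgebra
  haveI : IsScalarTower R k O := IsScalarTower.of_algebraMap_eq fun r => by
    show Ideal.Quotient.mk qP (algebraMap R Pp r) = ιk (residue _ (algebraMap R (Localization.AtPrime q) r))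
    exact congrArg (Ideal.Quotient.mk qP) (IsLocalization.lift_eq _ r).symm
  haveI : Algebra.EssFiniteType k O := Algebra.EssFiniteType.of_comp R k O
  haveI : IsNoetherianRing O := Algebra.EssFiniteType.isNoetherianRing k O
  have hmO : maximalIdeal O = Ideal.span {Ideal.Quotient.mk qP (tt 0), Ideal.Quotient.mk qP (tt 1)} := by
    have h1 : (maximalIdeal Pp).map (Ideal.Quotient.mk qP) = maximalIdeal O := by
      refine le_antisymm (Ideal.map_le_iff_le_comap.2 fun w hw hu => ?_) (fun w hw => ?_)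
      · haveI : IsLocalHom (Ideal.Quotient.mk qP) := IsLocalHom.of_surjective _ Ideal.Quotient.mk_surjective
        exact hw (isUnit_of_map_unit (Ideal.Quotient.mk qP) w hu)
      · obtain ⟨w', rfl⟩ := Ideal.Quotient.mk_surjective w
        refine Ideal.mem_map_of_mem _ ?_
        by_contra hcon
        exact (mem_maximalIdeal _).1 hw ((notMem_maximalIdeal.1 hcon).map _)
    rw [← h1, hmP, Ideal.map_sup, Ideal.map_quotient_self, bot_sup_eq, Ideal.map_span, Set.image_pair]
  -- the equation
  have hρm : (maximalIdeal O ^ 3).map ρP = maximalIdeal A ^ 3 := by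
    rw [Ideal.map_pow, hmO, Ideal.map_span, Set.image_pair, hxy',
      show ρP (Ideal.Quotient.mk qP (tt 0)) = x by show ρ (θp (tt 0)) = _; rw [hθp, hθt]; rfl,
      show ρP (Ideal.Quotient.mk qP (tt 1)) = y by show ρ (θp (tt 1)) = _; rw [hθp, hθt]; rfl]
  obtain ⟨α, hα⟩ := hρP (a * e1 ^ 2)
  obtain ⟨β, hβ⟩ := hρP (b₀ * (e1 * e2))
  obtain ⟨γ, hγ⟩ := hρP (c * e2 ^ 2)
  rw [← hρm] at hq'
  obtain ⟨δ, hδ, hδ'⟩ := (Ideal.mem_map_iff_of_surjective ρP hρP).1 hq'
  let F₀ : O := qv α β γ (Ideal.Quotient.mk qP (tt 0)) (Ideal.Quotient.mk qP (tt 1)) - δ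
  have hρF : ρP F₀ = 0 := by
    rw [map_sub, map_qv, hα, hβ, hγ, hδ']
    rw [show ρP (Ideal.Quotient.mk qP (tt 0)) = x by show ρ (θp (tt 0)) = _; rw [hθp, hθt]; rfl,
      show ρP (Ideal.Quotient.mk qP (tt 1)) = y by show ρ (θp (tt 1)) = _; rw [hθp, hθt]; rfl, sub_self]
  haveI : IsLocalHom ρP := IsLocalHom.of_surjective ρP hρP
  have hΔO : IsUnit (4 * α * γ - β ^ 2) := isUnit_of_map_unit ρP _ (by
    simpa only [map_sub, map_mul, map_ofNat, map_pow, hα, hβ, hγ] using hΔ')
  have hF₀ : ∀ w, ρP w = 0 → w ∈ Ideal.span {F₀} := by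
    let C := O ⧸ Ideal.span {F₀}
    haveI : Nontrivial C := Ideal.Quotient.nontrivial_iff.2 fun h => by
      obtain ⟨w, hw⟩ := Ideal.mem_span_singleton'.1 (h.symm ▸ Submodule.mem_top : (1 : O) ∈ Ideal.span {F₀})
      exact one_ne_zero (α := A) (by rw [← map_one ρP, ← hw, map_mul, hρF, mul_zero])
    haveI : IsLocalRing C := IsLocalRing.of_surjective' (Ideal.Quotient.mk (Ideal.span {F₀})) Ideal.Quotient.mk_surjective
    have hC : maximalIdeal C = (maximalIdeal O).map (Ideal.Quotient.mk (Ideal.span {F₀})) := by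
      refine le_antisymm (fun w hw => ?_) (Ideal.map_le_iff_le_comap.2 fun w hw hu => ?_)
      · obtain ⟨w', rfl⟩ := Ideal.Quotient.mk_surjective w
        refine Ideal.mem_map_of_mem _ ?_
        by_contra hcon
        exact (mem_maximalIdeal _).1 hw ((notMem_maximalIdeal.1 hcon).map _)
      · haveI : IsLocalHom (Ideal.Quotient.mk (Ideal.span {F₀})) :=
          IsLocalHom.of_surjective _ Ideal.Quotient.mk_surjective
        exact hw (isUnit_of_map_unit (Ideal.Quotient.mk (Ideal.span {F₀})) w hu)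
    let σ : C →+* A := Ideal.Quotient.lift _ ρP fun w hw => by
      obtain ⟨w', rfl⟩ := Ideal.mem_span_singleton'.1 hw
      rw [map_mul, hρF, mul_zero]
    have hσ : Function.Surjective σ := fun w => by
      obtain ⟨w', rfl⟩ := hρP w
      exact ⟨Ideal.Quotient.mk _ w', rfl⟩
    let mkC : O →+* C := Ideal.Quotient.mk _
    have hinj : Function.Injective σ := injective_of_quad σ hσ (a := mkC α) (b := mkC β) (c := mkC γ)
      (x := mkC (Ideal.Quotient.mk qP (tt 0))) (y := mkC (Ideal.Quotient.mk qP (tt 1)))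
      (by have := hΔO.map mkC; simpa only [map_sub, map_mul, map_ofNat, map_pow] using this)
      (by rw [hC, hmO, Ideal.map_span, Set.image_pair])
      (by
        rw [← map_qv, show qv α β γ (Ideal.Quotient.mk qP (tt 0)) (Ideal.Quotient.mk qP (tt 1)) = F₀ + δ by simp [F₀],
          map_add, show mkC F₀ = 0 from Ideal.Quotient.eq_zero_iff_mem.2 (Ideal.mem_span_singleton_self _), zero_add,
          hC]
        exact Ideal.le_comap_pow mkC 3 (Ideal.pow_right_mono Ideal.le_comap_map 3 hδ)) hnp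
    intro w hw
    exact Ideal.Quotient.eq_zero_iff_mem.1 (hinj (hw.trans (map_zero σ).symm) : mkC w = 0)
  obtain ⟨p₀, hp₀⟩ := Ideal.Quotient.mk_surjective F₀
  have hp₀' : θp p₀ ∈ qP.map θp.toRingHom := by
    rw [hqPθ, ← hker, RingHom.mem_ker]
    exact (congrArg ρP hp₀).trans hρF
  obtain ⟨q₀, hq₀, hq₀'⟩ := (Ideal.mem_map_iff_of_surjective θp.toRingHom hθps).1 hp₀'
  have hFker : p₀ - q₀ ∈ J.map (algebraMap P Pp) := by
    rw [← hkerP, RingHom.mem_ker, map_sub, sub_eq_zero]
    exact hq₀'.symm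
  have hFO : Ideal.Quotient.mk qP (p₀ - q₀) = F₀ := by
    rw [map_sub, hp₀, Ideal.Quotient.eq_zero_iff_mem.2 hq₀, sub_zero]
  obtain ⟨⟨⟨F, hFJ⟩, s⟩, hFs⟩ := (IsLocalization.mem_map_algebraMap_iff 𝔓.primeCompl Pp).1 hFker
  simp only at hFs
  have hsu : IsUnit (algebraMap P Pp s) := IsLocalization.map_units Pp s
  have hgen : J.map (algebraMap P Pp) ≤ Ideal.span {algebraMap P Pp F} := by
    refine Submodule.le_of_le_smul_of_le_jacobson_bot (I := qP) (hJ.map _)
      (by rw [IsLocalRing.jacobson_eq_maximalIdeal _ bot_ne_top]; exact hqPle) ?_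
    intro w hw
    have h1 : ρP (Ideal.Quotient.mk qP w) = 0 := by
      show ρ (θp w) = 0
      rw [show θp w = 0 from RingHom.mem_ker.1 (hkerP.symm ▸ hw), map_zero]
    obtain ⟨r, hr⟩ := Ideal.mem_span_singleton'.1 (hF₀ _ h1)
    obtain ⟨r, rfl⟩ := Ideal.Quotient.mk_surjective r
    rw [← hFO, ← map_mul, Ideal.Quotient.eq] at hr
    refine Submodule.mem_sup.2 ⟨r * (p₀ - q₀), ?_, w - r * (p₀ - q₀), ?_, add_sub_cancel _ _⟩
    · refine Ideal.mul_mem_left _ _ (Ideal.mem_span_singleton'.2 ⟨↑hsu.unit⁻¹, ?_⟩)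
      rw [← hFs, mul_left_comm, IsUnit.val_inv_mul, mul_one]
    · have h2 : w - r * (p₀ - q₀) ∈ RingHom.ker θp.toRingHom ⊓ qP :=
        ⟨hkerP.symm ▸ sub_mem hw (Ideal.mul_mem_left _ _ hFker), neg_sub (r * (p₀ - q₀)) w ▸ neg_mem hr⟩
      rw [smul_eq_mul, ← hkerP]
      exact inf_map_le_of_flat θp hθps q h2
  -- second derivatives
  haveI : Algebra.FormallyEtale P Pp := Algebra.FormallyEtale.of_isLocalization 𝔓.primeCompl
  obtain ⟨bp, hbp, hbp'⟩ := exists_basis_etale (Q := Pp) bP
  have hpd : ∀ i j, pd bp i (tt j) = if j = i then 1 else 0 := pd_coord bp tt fun i => hbp' i _ (hbP i)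
  obtain ⟨α', rfl⟩ := Ideal.Quotient.mk_surjective α
  obtain ⟨β', rfl⟩ := Ideal.Quotient.mk_surjective β
  obtain ⟨γ', rfl⟩ := Ideal.Quotient.mk_surjective γ
  let σs := algebraMap P Pp s
  let Q := qv (σs * α') (σs * β') (σs * γ') (tt 0) (tt 1)
  let m := maximalIdeal Pp
  have hFQ : algebraMap P Pp F - Q ∈ m ^ 3 ⊔ qP := by
    have h1 : (maximalIdeal Pp ^ 3).map (Ideal.Quotient.mk qP) = maximalIdeal O ^ 3 := by
      rw [Ideal.map_pow, hmP, hmO, Ideal.map_sup, Ideal.map_quotient_self, bot_sup_eq, Ideal.map_span, Set.image_pair]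
    obtain ⟨d, hd, hd'⟩ := (Ideal.mem_map_iff_of_surjective (Ideal.Quotient.mk qP) Ideal.Quotient.mk_surjective).1
      (h1.symm ▸ hδ)
    refine Submodule.mem_sup.2 ⟨-(σs * d), neg_mem (Ideal.mul_mem_left _ _ hd), algebraMap P Pp F - Q + σs * d, ?_,
      by ring⟩
    rw [← Ideal.Quotient.eq_zero_iff_mem]
    simp only [Q, map_add, map_sub, map_mul, map_qv, hd', ← hFs, hp₀, Ideal.Quotient.eq_zero_iff_mem.2 hq₀, F₀, σs]
    simp only [qv]
    ring
  have htm : ∀ i, tt i ∈ m := fun i => by
    rw [show m = _ from hmP]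
    fin_cases i
    exacts [Ideal.mem_sup_right (Ideal.subset_span (Set.mem_insert _ _)),
      Ideal.mem_sup_right (Ideal.subset_span (Set.mem_insert_of_mem _ rfl))]
  have hd1 : ∀ i, pd bp i (algebraMap P Pp F) - pd bp i Q ∈ m ^ 2 ⊔ qP := fun i => by
    rw [← map_sub]
    obtain ⟨u, hu, v, hv, huv⟩ := Submodule.mem_sup.1 hFQ
    rw [← huv, map_add]
    exact Submodule.add_mem_sup (derivation_mem_pow _ _ 2 hu) (derivation_mem_map _ _ hv)
  have hd2 : ∀ i j, pd bp i (pd bp j (algebraMap P Pp F)) - pd bp i (pd bp j Q) ∈ m := fun i j => by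
    rw [← map_sub]
    obtain ⟨u, hu, v, hv, huv⟩ := Submodule.mem_sup.1 (hd1 j)
    rw [← huv, map_add]
    refine add_mem ?_ (hqPle (derivation_mem_map _ _ hv))
    simpa using derivation_mem_pow (pd bp i) m 1 hu
  have hd1' : ∀ i, pd bp i (algebraMap P Pp F) ∈ m := fun i => by
    have hQ : pd bp i Q ∈ m := by
      refine (residue_eq_zero_iff _).1 ?_
      have htr : ∀ i, residue Pp (tt i) = 0 := fun i => (residue_eq_zero_iff _).2 (htm i)
      simp [Q, qv, Derivation.leibniz, Derivation.leibniz_pow, htr]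
    rw [← sub_add_cancel (pd bp i (algebraMap P Pp F)) (pd bp i Q)]
    exact add_mem ((sup_le (Ideal.pow_le_self two_ne_zero) hqPle) (hd1 i)) hQ
  have hdet : IsUnit (Matrix.of fun i j => pd bp i (pd bp j (algebraMap P Pp F))).det := by
    have hres : ∀ i j, residue Pp (pd bp i (pd bp j (algebraMap P Pp F))) = residue Pp (pd bp i (pd bp j Q)) :=
      fun i j => sub_eq_zero.1 (by rw [← map_sub, residue_eq_zero_iff]; exact hd2 i j)
    have htr : ∀ i, residue Pp (tt i) = 0 := fun i => (residue_eq_zero_iff _).2 (htm i)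
    rw [← residue_ne_zero_iff_isUnit, RingHom.map_det]
    have hu : IsUnit (σs ^ 2 * (4 * α' * γ' - β' ^ 2)) := by
      refine (hsu.pow 2).mul ?_
      haveI : IsLocalHom (Ideal.Quotient.mk qP) := IsLocalHom.of_surjective _ Ideal.Quotient.mk_surjective
      exact isUnit_of_map_unit (Ideal.Quotient.mk qP) _ (by simp only [map_sub, map_mul, map_ofNat, map_pow]; exact hΔO)
    refine fun hcon => (residue_ne_zero_iff_isUnit _).2 hu ?_
    rw [Matrix.det_fin_two] at hcon
    simp only [RingHom.mapMatrix_apply, Matrix.map_apply, Matrix.of_apply, hres] at hcon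
    simp [Q, qv, Derivation.leibniz, Derivation.leibniz_pow, hpd, htr] at hcon
    simp only [map_mul, map_sub, map_pow, map_ofNat]
    linear_combination (norm := skip) hcon
    rw [show residue Pp (2 : Pp) = 2 from map_ofNat _ 2]
    ring
  -- shrinking
  have hh₁ : ∃ h₁ ∉ 𝔓, ∀ w ∈ J, h₁ * w ∈ Ideal.span {F} := by
    obtain ⟨W, hW⟩ := hJ
    have h : ∀ w ∈ W, ∃ s ∉ 𝔓, s * w ∈ Ideal.span {F} := fun w hw =>
      (IsLocalization.algebraMap_mem_map_algebraMap_iff 𝔓.primeCompl Pp _ w).1 (by
        rw [Ideal.map_span, Set.image_singleton]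
        exact hgen (Ideal.mem_map_of_mem _ (hW ▸ Ideal.subset_span hw)))
    choose s hs hs' using h
    refine ⟨∏ w ∈ W.attach, s w.1 w.2, fun hcon => ?_, fun w hw => ?_⟩
    · obtain ⟨i, -, hi⟩ := Ideal.IsPrime.prod_mem_iff.1 hcon
      exact hs _ _ hi
    · rw [← hW] at hw
      induction hw using Submodule.span_induction with
      | zero => simp
      | mem w hw =>
        rw [← Finset.prod_erase_mul _ _ (Finset.mem_attach W ⟨w, hw⟩), mul_assoc]
        exact Ideal.mul_mem_left _ _ (hs' w hw)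
      | add _ _ _ _ h h' => rw [mul_add]; exact add_mem h h'
      | smul r _ _ h => rw [smul_eq_mul, mul_left_comm]; exact Ideal.mul_mem_left _ _ h
  obtain ⟨h₁, hh₁, hh₁'⟩ := hh₁
  let H := (Matrix.of fun i j => pd bP i (pd bP j F)).det
  have hH : H ∉ 𝔓 := by
    rw [← IsLocalization.AtPrime.to_map_mem_maximal_iff Pp 𝔓, notMem_maximalIdeal, RingHom.map_det]
    have hM : (algebraMap P Pp).mapMatrix (Matrix.of fun i j => pd bP i (pd bP j F)) =
        Matrix.of fun i j => pd bp i (pd bp j (algebraMap P Pp F)) := Matrix.ext fun i j => by simp [hbp]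
    rw [hM]
    exact hdet
  let h := h₁ * H
  have hh : h ∉ 𝔓 := fun hc => ((inferInstance : 𝔓.IsPrime).mem_or_mem hc).elim hh₁ hH
  let P₁ := Localization.Away h
  haveI : Algebra.Etale P P₁ := Algebra.Etale.of_isLocalizationAway h
  haveI : Algebra.Smooth R P₁ := Algebra.Smooth.comp R P P₁
  obtain ⟨b₁, hb₁, hb₁'⟩ := exists_basis_etale (Q := P₁) bP
  let F₁ := algebraMap P P₁ F
  have hJ₁ : Ideal.span {F₁} = J.map (algebraMap P P₁) := by
    refine le_antisymm ((Ideal.span_singleton_le_iff_mem _).2 (Ideal.mem_map_of_mem _ hFJ))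
      (Ideal.map_le_iff_le_comap.2 fun w hw => ?_)
    have h1 : algebraMap P P₁ (h₁ * w) ∈ Ideal.span {F₁} := by
      have := Ideal.mem_map_of_mem (algebraMap P P₁) (hh₁' w hw)
      rwa [Ideal.map_span, Set.image_singleton] at this
    rw [map_mul] at h1
    have hu : IsUnit (algebraMap P P₁ h₁) := by
      have := IsLocalization.Away.algebraMap_isUnit (S := P₁) h
      rw [map_mul] at this
      exact isUnit_of_mul_isUnit_left this
    exact (Ideal.unit_mul_mem_iff_mem _ hu).1 h1
  let e : (P ⧸ J) ≃ₐ[R] Bg := Ideal.quotientKerAlgEquivOfSurjective hπ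
  let qm : (P ⧸ J) →ₐ[R] P₁ ⧸ Ideal.span {F₁} :=
    Ideal.quotientMapₐ _ (IsScalarTower.toAlgHom R P P₁) (hJ₁ ▸ Ideal.le_comap_map)
  have hqm : qm.toRingHom.Etale :=
    etale_quotientMap (algebraMap P P₁) (RingHom.etale_algebraMap.2 inferInstance) J _ hJ₁
  let φ : B →ₐ[R] P₁ ⧸ Ideal.span {F₁} := (qm.comp e.symm.toAlgHom).comp (IsScalarTower.toAlgHom R B Bg)
  haveI : Algebra.Etale B Bg := Algebra.Etale.of_isLocalizationAway g
  have hφ : φ.toRingHom.Etale :=
    RingHom.Etale.stableUnderComposition _ _ (RingHom.etale_algebraMap.2 (inferInstance : Algebra.Etale B Bg))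
      (RingHom.Etale.stableUnderComposition _ _ (RingHom.Etale.of_bijective (f := e.symm.toAlgHom.toRingHom)
        e.symm.bijective) hqm)
  have hhθ : IsUnit (θ h) := notMem_maximalIdeal.1 hh
  let θ₁ : P₁ →ₐ[R] Bp := IsLocalization.liftAlgHom (M := Submonoid.powers h) (f := θ) (fun ⟨_, n, hn⟩ => by
    subst hn; rw [map_pow]; exact hhθ.pow n)
  have hθ₁ : ∀ p, θ₁ (algebraMap P P₁ p) = θ p := fun p => IsLocalization.lift_eq _ p
  let θ₁' : P₁ ⧸ Ideal.span {F₁} →+* Bp := Ideal.Quotient.lift _ θ₁.toRingHom fun w hw => by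
    obtain ⟨r, rfl⟩ := Ideal.mem_span_singleton'.1 hw
    show θ₁ (r * F₁) = 0
    rw [map_mul, hθ₁, show θ F = 0 from (congrArg τ (RingHom.mem_ker.1 hFJ)).trans (map_zero _), mul_zero]
  have hcomp : θ₁'.comp φ.toRingHom = algebraMap B Bp := by
    refine RingHom.ext fun β => ?_
    obtain ⟨p, hp⟩ := hπ (algebraMap B Bg β)
    have hep : e.symm (algebraMap B Bg β) = Ideal.Quotient.mk J p := e.symm_apply_eq.2 hp.symm
    show θ₁' (qm (e.symm (algebraMap B Bg β))) = _
    rw [hep]
    show θ₁ (algebraMap P P₁ p) = _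
    rw [hθ₁]
    show τ (π p) = _
    rw [hp, τ.commutes]
  refine ⟨P₁, inferInstance, inferInstance, inferInstance, b₁, fun i => algebraMap P P₁ (t i),
    fun i => hb₁' i _ (hbP i), F₁, φ, (maximalIdeal Bp).comap θ₁', inferInstance, hφ, ?_, fun i => ?_, ?_⟩
  · rw [Ideal.comap_comap, hcomp]
    exact IsLocalization.AtPrime.under_maximalIdeal Bp 𝔭
  · show θ₁ (pd b₁ i (algebraMap P P₁ F)) ∈ maximalIdeal Bp
    rw [hb₁, hθ₁, ← hθp, ← hbp]
    exact map_nonunit θp.toRingHom _ (hd1' i)
  · have hu : IsUnit (algebraMap P P₁ H) := by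
      have := IsLocalization.Away.algebraMap_isUnit (S := P₁) h
      rw [map_mul] at this
      exact isUnit_of_mul_isUnit_right this
    rw [RingHom.map_det] at hu
    have hM : (algebraMap P P₁).mapMatrix (Matrix.of fun i j => pd bP i (pd bP j F)) =
        Matrix.of fun i j => pd b₁ i (pd b₁ j F₁) := Matrix.ext fun i j => by simp [F₁, hb₁]
    rw [hM] at hu
    exact hu

end Groth.Agent.NodePtLib.EtaleLocal
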