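import Mathlib.RingTheory.Kaehler.Polynomial
import Mathlib.RingTheory.Kaehler.TensorProduct
import Mathlib.RingTheory.Etale.Kaehler
import Mathlib.RingTheory.RingHom.Etale
import Mathlib.RingTheory.TensorProduct.Quotient
import Mathlib.LinearAlgebra.Matrix.ToLin
import Mathlib.LinearAlgebra.Determinant

/-!
# Coordinates on smooth algebras
-/

set_option autoImplicit false
set_option backward.isDefEq.respectTransparency false
set_option linter.unusedSectionVars false
set_option linter.style.haveILetI false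

universe u

open TensorProduct KaehlerDifferential

noncomputable section

namespace Groth.Agent.NodePtLib.EtaleLocal

variable {R P : Type u} [CommRing R] [CommRing P] [Algebra R P] {ι : Type} [Fintype ι] [DecidableEq ι]

/-- The partial derivative along a basis of differentials. -/
def pd (b : Module.Basis ι P Ω[P⁄R]) (i : ι) : Derivation R P P := (b.coord i).compDer (D R P)

theorem pd_apply (b : Module.Basis ι P Ω[P⁄R]) (i : ι) (p : P) : pd b i p = b.repr (D R P p) i := rfl

theorem pd_coord (b : Module.Basis ι P Ω[P⁄R]) (t : ι → P) (ht : ∀ i, b i = D R P (t i)) (i j : ι) :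
    pd b i (t j) = if j = i then 1 else 0 := by
  rw [pd_apply, ← ht, Module.Basis.repr_self, Finsupp.single_apply]

/-- A derivation is determined by its values on the coordinates. -/
theorem derivation_eq_sum (b : Module.Basis ι P Ω[P⁄R]) (t : ι → P) (ht : ∀ i, b i = D R P (t i))
    {M : Type u} [AddCommGroup M] [Module R M] [Module P M] [IsScalarTower R P M] (d : Derivation R P M) (p : P) :
    d p = ∑ i, pd b i p • d (t i) := by
  conv_lhs => rw [← d.liftKaehlerDifferential_comp_D p, ← b.sum_repr (D R P p), map_sum]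
  exact Finset.sum_congr rfl fun i _ => by rw [map_smul, ht, d.liftKaehlerDifferential_comp_D, pd_apply]

theorem exists_basis_transfer {R' Q : Type u} [CommRing R'] [CommRing Q] [Algebra R' Q] [Algebra P Q]
    (b : Module.Basis ι P Ω[P⁄R]) (e : Q ⊗[P] Ω[P⁄R] ≃ₗ[Q] Ω[Q⁄R'])
    (he : ∀ p, e (1 ⊗ₜ D R P p) = D R' Q (algebraMap P Q p)) :
    ∃ b' : Module.Basis ι Q Ω[Q⁄R'], (∀ i p, pd b' i (algebraMap P Q p) = algebraMap P Q (pd b i p)) ∧
      ∀ i x, b i = D R P x → b' i = D R' Q (algebraMap P Q x) := by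
  refine ⟨(b.baseChange Q).map e, fun i p => ?_, fun i x hx => ?_⟩
  · rw [pd_apply, pd_apply, ← he, Module.Basis.map_repr, LinearEquiv.trans_apply, LinearEquiv.symm_apply_apply,
      Module.Basis.baseChange_repr_tmul, ← Algebra.algebraMap_eq_smul_one]
  · rw [Module.Basis.map_apply, Module.Basis.baseChange_apply, hx, he]

theorem exists_basis_etale {Q : Type u} [CommRing Q] [Algebra R Q] [Algebra P Q] [IsScalarTower R P Q]
    [Algebra.FormallyEtale P Q] (b : Module.Basis ι P Ω[P⁄R]) :
    ∃ b' : Module.Basis ι Q Ω[Q⁄R], (∀ i p, pd b' i (algebraMap P Q p) = algebraMap P Q (pd b i p)) ∧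
      ∀ i x, b i = D R P x → b' i = D R Q (algebraMap P Q x) :=
  exists_basis_transfer b (tensorKaehlerEquivOfFormallyEtale R P Q) fun p => by
    rw [tensorKaehlerEquivOfFormallyEtale_apply, mapBaseChange_tmul, one_smul, map_D]

theorem exists_basis_pushout {R' Q : Type u} [CommRing R'] [CommRing Q] [Algebra R R'] [Algebra R' Q]
    [Algebra P Q] [Algebra R Q] [IsScalarTower R P Q] [IsScalarTower R R' Q] [Algebra.IsPushout R R' P Q]
    (b : Module.Basis ι P Ω[P⁄R]) :
    ∃ b' : Module.Basis ι Q Ω[Q⁄R'], (∀ i p, pd b' i (algebraMap P Q p) = algebraMap P Q (pd b i p)) ∧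
      ∀ i x, b i = D R P x → b' i = D R' Q (algebraMap P Q x) :=
  exists_basis_transfer b (tensorKaehlerEquiv R R' P Q) fun p => by
    rw [tensorKaehlerEquiv_tmul_D, one_smul]

/-- The coordinates of an étale algebra over a polynomial ring. -/
theorem exists_basis_of_etale_poly [Algebra (MvPolynomial ι R) P] [IsScalarTower R (MvPolynomial ι R) P]
    [Algebra.FormallyEtale (MvPolynomial ι R) P] :
    ∃ b : Module.Basis ι P Ω[P⁄R], ∀ i, b i = D R P (algebraMap (MvPolynomial ι R) P (MvPolynomial.X i)) := by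
  obtain ⟨b, -, hb⟩ := exists_basis_etale (Q := P) (mvPolynomialBasis R ι)
  refine ⟨b, fun i => hb i _ ?_⟩
  refine (mvPolynomialBasis R ι).repr.injective ?_
  rw [Module.Basis.repr_self, mvPolynomialBasis_repr_D_X]

/-- The Jacobian criterion for étale maps to affine space. -/
theorem etale_of_det [Algebra.Smooth R P] (b : Module.Basis ι P Ω[P⁄R]) (G : ι → P)
    (h : IsUnit (Matrix.of fun i j => pd b i (G j)).det) :
    (MvPolynomial.aeval G : MvPolynomial ι R →ₐ[R] P).toRingHom.Etale := by
  let A := MvPolynomial ι R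
  algebraize [(MvPolynomial.aeval G : A →ₐ[R] P).toRingHom]
  haveI : IsScalarTower R A P := IsScalarTower.of_algebraMap_eq fun c => ((MvPolynomial.aeval G).commutes c).symm
  let bA : Module.Basis ι P (P ⊗[A] Ω[A⁄R]) := (mvPolynomialBasis R ι).baseChange P
  have hbA : ∀ j, mapBaseChange R A P (bA j) = D R P (G j) := fun j => by
    have e : (mvPolynomialBasis R ι) j = D R A (MvPolynomial.X j) := by
      refine (mvPolynomialBasis R ι).repr.injective ?_
      rw [Module.Basis.repr_self, mvPolynomialBasis_repr_D_X]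
    rw [Module.Basis.baseChange_apply, e, mapBaseChange_tmul, one_smul, map_D]
    exact congrArg (D R P) (MvPolynomial.aeval_X G j)
  have hM : LinearMap.toMatrix bA b (mapBaseChange R A P) = Matrix.of fun i j => pd b i (G j) := by
    ext i j
    rw [LinearMap.toMatrix_apply, hbA, Matrix.of_apply, pd_apply]
  have hbij : Function.Bijective (mapBaseChange R A P) :=
    (LinearEquiv.ofIsUnitDet (v := bA) (v' := b) (f := mapBaseChange R A P) (by rw [hM]; exact h)).bijective
  haveI : Algebra.FormallyEtale A P := by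
    refine ⟨⟨fun x y => ?_⟩, ⟨fun x y => ?_⟩⟩
    · have hz : ∀ z : Ω[P⁄A], z = 0 := fun z => by
        obtain ⟨z, rfl⟩ := KaehlerDifferential.map_surjective R A P z
        exact (exact_mapBaseChange_map R A P z).2 (hbij.2 z)
      rw [hz x, hz y]
    · have hz : ∀ z : Algebra.H1Cotangent A P, z = 0 := fun z => by
        have h1 : Algebra.H1Cotangent.δ R A P z = 0 := hbij.1 (by
          rw [map_zero]
          exact (Algebra.H1Cotangent.exact_δ_mapBaseChange R A P _).2 ⟨z, rfl⟩)
        obtain ⟨w, rfl⟩ := (Algebra.H1Cotangent.exact_map_δ R A P z).1 h1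
        rw [Subsingleton.elim w 0, map_zero]
      rw [hz x, hz y]
  exact ⟨inferInstance, Algebra.FinitePresentation.of_restrict_scalars_finitePresentation R A P⟩

/-- Étale maps stay étale on quotients. -/
theorem etale_quotientMap {A B : Type u} [CommRing A] [CommRing B] (φ : A →+* B) (hφ : φ.Etale) (I : Ideal A)
    (J : Ideal B) (hJ : J = I.map φ) :
    (Ideal.quotientMap J φ (hJ ▸ Ideal.le_comap_map : I ≤ J.comap φ)).Etale := by
  subst hJ
  algebraize [φ]
  letI : Algebra (A ⧸ I) (B ⧸ I.map (algebraMap A B)) := (Ideal.quotientMap _ φ Ideal.le_comap_map).toAlgebra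
  let e₀ : (B ⧸ I.map (algebraMap A B)) ≃ₐ[B] B ⊗[A] (A ⧸ I) := Algebra.TensorProduct.quotIdealMapEquivTensorQuot B I
  let e₁ : (A ⧸ I) ⊗[A] B ≃+* (B ⧸ I.map (algebraMap A B)) :=
    (Algebra.TensorProduct.comm A (A ⧸ I) B).toRingEquiv.trans e₀.symm.toRingEquiv
  let e : (A ⧸ I) ⊗[A] B ≃ₐ[A ⧸ I] (B ⧸ I.map (algebraMap A B)) :=
    { e₁ with
      commutes' := fun a => by
        obtain ⟨a, rfl⟩ := Ideal.Quotient.mk_surjective a
        show e₀.symm (Algebra.TensorProduct.comm A (A ⧸ I) B (Ideal.Quotient.mk I a ⊗ₜ 1)) =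
          Ideal.Quotient.mk _ (φ a)
        rw [AlgEquiv.symm_apply_eq]
        show (1 : B) ⊗ₜ[A] Ideal.Quotient.mk I a = e₀ (algebraMap B _ (φ a))
        rw [e₀.commutes, Algebra.TensorProduct.algebraMap_apply, Algebra.algebraMap_self, RingHom.id_apply,
          show Ideal.Quotient.mk I a = a • (1 : A ⧸ I) by rw [← Ideal.Quotient.algebraMap_eq, Algebra.algebraMap_eq_smul_one],
          TensorProduct.tmul_smul, TensorProduct.smul_tmul', Algebra.smul_def, mul_one]
        rfl }
  exact RingHom.etale_algebraMap.2 (Algebra.Etale.of_equiv e)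

end Groth.Agent.NodePtLib.EtaleLocal
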