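import Mathlib
import Groth.Agent.NodePtLib.EtaleLocal.Coord

/-!
# The étale local model over a discrete valuation ring
-/

set_option autoImplicit false
set_option backward.isDefEq.respectTransparency false
set_option linter.unusedSectionVars false
set_option linter.style.haveILetI false

universe u

open IsLocalRing

noncomputable section

namespace Groth.Agent.NodePtLib.EtaleLocal

/-- A Noetherian local ring whose maximal ideal is generated by a non-zero-divisor is a discrete valuation ring. -/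
theorem isDVR_of_nzd {A : Type u} [CommRing A] [IsLocalRing A] [IsNoetherianRing A] {π : A}
    (hm : maximalIdeal A = Ideal.span {π}) (hπ : π ∈ nonZeroDivisors A) :
    ∃ _ : IsDomain A, IsDiscreteValuationRing A ∧ Irreducible π := by
  have hπm : π ∈ maximalIdeal A := hm ▸ Ideal.mem_span_singleton_self π
  have hfac : ∀ x : A, x ≠ 0 → ∃ (n : ℕ) (w : Aˣ), π ^ n * w = x := by
    intro x hx
    have hex : ∃ n, x ∉ maximalIdeal A ^ n := by
      by_contra! h
      refine hx ?_
      have : x ∈ ⨅ n : ℕ, maximalIdeal A ^ n := Ideal.mem_iInf.2 h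
      rwa [Ideal.iInf_pow_eq_bot_of_isLocalRing _ (maximalIdeal.isMaximal _).ne_top, Ideal.mem_bot] at this
    obtain ⟨n, hn, hmin⟩ : ∃ n, x ∉ maximalIdeal A ^ (n + 1) ∧ x ∈ maximalIdeal A ^ n := by
      classical
      refine ⟨Nat.find hex - 1, ?_, ?_⟩
      · have h0 : Nat.find hex ≠ 0 := fun h => by
          have := Nat.find_spec hex
          rw [h, pow_zero, Ideal.one_eq_top] at this
          exact this trivial
        rw [Nat.sub_add_cancel (Nat.one_le_iff_ne_zero.2 h0)]
        exact Nat.find_spec hex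
      · rcases Nat.eq_zero_or_pos (Nat.find hex) with h | h
        · rw [h, Nat.zero_sub, pow_zero, Ideal.one_eq_top]; trivial
        · exact not_not.1 (Nat.find_min hex (Nat.sub_lt h one_pos))
    rw [hm, Ideal.span_singleton_pow, Ideal.mem_span_singleton'] at hmin hn
    obtain ⟨y, rfl⟩ := hmin
    have hy : IsUnit y := notMem_maximalIdeal.1 fun hy => hn (by
      obtain ⟨z, rfl⟩ := Ideal.mem_span_singleton'.1 (hm ▸ hy : y ∈ Ideal.span {π})
      exact ⟨z, by rw [pow_succ]; ring⟩)
    exact ⟨n, hy.unit, mul_comm _ _⟩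
  haveI : IsDomain A := by
    haveI : NoZeroDivisors A := ⟨fun {x y} h => by
      by_contra hc
      push Not at hc
      obtain ⟨i, v, rfl⟩ := hfac x hc.1
      obtain ⟨j, w, rfl⟩ := hfac y hc.2
      have h1 : (↑(v * w) : A) * π ^ (i + j) = 0 := by
        rw [← h, pow_add, Units.val_mul]; ring
      rw [(v * w).mul_right_eq_zero] at h1
      exact zero_ne_one (α := A) ((mul_left_mem_nonZeroDivisors_eq_zero_iff (pow_mem hπ (i + j))).1
        (show π ^ (i + j) * (1 : A) = 0 by rw [mul_one, h1])).symm⟩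
    exact NoZeroDivisors.to_isDomain A
  have hirr : Irreducible π := by
    refine ⟨fun h => (mem_maximalIdeal _).1 hπm h, fun a b hab => ?_⟩
    by_contra hc
    push Not at hc
    obtain ⟨a', rfl⟩ := Ideal.mem_span_singleton'.1 (hm ▸ (mem_maximalIdeal _).2 hc.1 : a ∈ Ideal.span {π})
    obtain ⟨b', rfl⟩ := Ideal.mem_span_singleton'.1 (hm ▸ (mem_maximalIdeal _).2 hc.2 : b ∈ Ideal.span {π})
    have h1 : π * (1 - a' * b' * π) = 0 := by linear_combination hab
    have h2 := (mul_left_mem_nonZeroDivisors_eq_zero_iff hπ).1 h1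
    exact (mem_maximalIdeal _).1 hπm (IsUnit.of_mul_eq_one (a' * b') (by linear_combination -h2))
  exact ⟨inferInstance, IsDiscreteValuationRing.ofHasUnitMulPowIrreducibleFactorization
    ⟨π, hirr, fun {x} hx => by
      obtain ⟨n, w, h⟩ := hfac x hx
      exact ⟨n, ⟨w, h⟩⟩⟩, hirr⟩

/-- An étale algebra over a discrete valuation ring is one, near each closed point of the special fibre. -/
theorem exists_localization_dvr {R R' : Type u} [CommRing R] [IsDomain R] [IsDiscreteValuationRing R]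
    [CommRing R'] [Algebra R R'] [Algebra.Etale R R'] {ϖ : R} (hϖ : Irreducible ϖ) (q : Ideal R') [q.IsPrime]
    (hq : q.comap (algebraMap R R') = maximalIdeal R) :
    ∃ f ∉ q, ∃ _ : IsDomain (Localization.Away f), IsDiscreteValuationRing (Localization.Away f) ∧
      Irreducible (algebraMap R (Localization.Away f) ϖ) := by
  classical
  haveI : Algebra.QuasiFinite R R' := inferInstance
  haveI : Finite (PrimeSpectrum R) := by
    have h : Set.Finite (Set.univ : Set (PrimeSpectrum R)) := by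
      refine ((Set.finite_singleton (⊥ : Ideal R)).union (Set.finite_singleton (maximalIdeal R))).preimage
        (fun a _ b _ e => PrimeSpectrum.ext e) |>.subset (fun P _ => ?_)
      show P.asIdeal = ⊥ ∨ P.asIdeal = maximalIdeal R
      by_cases h0 : P.asIdeal = ⊥
      · exact Or.inl h0
      · exact Or.inr (IsLocalRing.eq_maximalIdeal (IsPrime.to_maximal_ideal h0))
    exact Set.finite_univ_iff.1 h
  haveI : Finite (PrimeSpectrum R') := by
    have h := (Algebra.QuasiFinite.finite_comap_preimage (R := R) (S := R') (Set.finite_univ))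
    rw [Set.preimage_univ] at h
    exact Set.finite_univ_iff.1 h
  haveI := Fintype.ofFinite (PrimeSpectrum R')
  have hex : ∀ P : PrimeSpectrum R', ¬ P.asIdeal ≤ q → ∃ a ∈ P.asIdeal, a ∉ q := fun P hP =>
    SetLike.not_le_iff_exists.1 hP
  choose a ha haq using hex
  let f : R' := ∏ P : {P : PrimeSpectrum R' // ¬ P.asIdeal ≤ q}, a P.1 P.2
  have hf : f ∉ q := fun h => by
    obtain ⟨P, -, hP⟩ := Ideal.IsPrime.prod_mem_iff.1 h
    exact haq _ _ hP
  have hle : ∀ P : Ideal R', P.IsPrime → f ∉ P → P ≤ q := fun P hP hfP => by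
    by_contra hc
    haveI := hP
    refine hfP (Ideal.mem_of_dvd _ (Finset.dvd_prod_of_mem _ (Finset.mem_univ ⟨⟨P, hP⟩, hc⟩)) (ha ⟨P, hP⟩ hc))
  let L := Localization.Away f
  haveI : IsNoetherianRing R' := Algebra.FiniteType.isNoetherianRing R R'
  haveI : IsNoetherianRing L := IsLocalization.isNoetherianRing (.powers f) L inferInstance
  have hdisj : Disjoint (Submonoid.powers f : Set R') q := Set.disjoint_left.2 fun x ⟨n, hn⟩ hxq => by
    subst hn
    exact hf (Ideal.IsPrime.mem_of_pow_mem ‹_› n hxq)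
  let qL : Ideal L := q.map (algebraMap R' L)
  haveI : qL.IsPrime := IsLocalization.isPrime_of_isPrime_disjoint (.powers f) L q ‹_› hdisj
  have hqL : qL.comap (algebraMap R' L) = q :=
    IsLocalization.comap_map_of_isPrime_disjoint (.powers f) L ‹_› hdisj
  have hall : ∀ P : Ideal L, P.IsPrime → P ≤ qL := fun P hP => by
    haveI := hP
    have h1 := IsLocalization.map_comap (Submonoid.powers f) L P
    rw [← h1]
    refine Ideal.map_mono (hle _ inferInstance fun hfP => hP.ne_top ?_)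
    exact Ideal.eq_top_of_isUnit_mem _ hfP (IsLocalization.Away.algebraMap_isUnit f)
  haveI : IsLocalRing L := IsLocalRing.of_unique_max_ideal ⟨qL, by
    obtain ⟨m, hm, hle'⟩ := Ideal.exists_le_maximal qL (Ideal.IsPrime.ne_top ‹_›)
    rwa [le_antisymm hle' (hall m hm.isPrime)], fun m hm =>
      hm.eq_of_le (Ideal.IsPrime.ne_top ‹_›) (hall m hm.isPrime)⟩
  have hmax : maximalIdeal L = qL := le_antisymm (hall _ inferInstance) (le_maximalIdeal (Ideal.IsPrime.ne_top ‹_›))
  haveI : Algebra.Etale R L := Algebra.Etale.comp R R' L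
  haveI : IsLocalHom (algebraMap R L) := ((local_hom_TFAE _).out 4 0).1 (by
    rw [hmax, IsScalarTower.algebraMap_eq R R' L, ← Ideal.comap_comap, hqL, hq])
  have hm : maximalIdeal L = Ideal.span {algebraMap R L ϖ} := by
    rw [← Algebra.FormallyUnramified.map_maximalIdeal (R := R) (S := L), hϖ.maximalIdeal_eq, Ideal.map_span,
      Set.image_singleton]
  have hnzd : algebraMap R L ϖ ∈ nonZeroDivisors L := by
    rw [mem_nonZeroDivisors_iff_right]
    intro x hx
    have h2 := Module.Flat.rTensor_preserves_injective_linearMap (M := L) (R := R) (LinearMap.lsmul R R ϖ)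
      (fun y z e => mul_left_cancel₀ hϖ.ne_zero e)
    have h3 : TensorProduct.lid R L (LinearMap.rTensor L (LinearMap.lsmul R R ϖ) ((1 : R) ⊗ₜ x)) = 0 := by
      rw [LinearMap.rTensor_tmul, TensorProduct.lid_tmul, LinearMap.lsmul_apply, smul_eq_mul, mul_one,
        Algebra.smul_def, mul_comm]
      exact hx
    rw [LinearEquiv.map_eq_zero_iff, map_eq_zero_iff _ h2] at h3
    have h4 := congrArg (TensorProduct.lid R L) h3
    rwa [TensorProduct.lid_tmul, one_smul, map_zero] at h4
  exact ⟨f, hf, isDVR_of_nzd hm hnzd⟩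

/-- Étale homomorphisms are cancellable on the left. -/
theorem etale_of_comp {A B C : Type u} [CommRing A] [CommRing B] [CommRing C] (f : A →+* B) (g : B →+* C)
    (hf : f.Etale) (h : (g.comp f).Etale) : g.Etale := by
  algebraize [f, g, g.comp f]
  exact RingHom.etale_algebraMap.2 (Algebra.Etale.of_restrictScalars (R := A) (A := B) (B := C))

/-- The torus as a localisation of the line. -/
theorem exists_equiv_torus (A : Type u) [CommRing A] :
    ∃ E : Localization.Away (MvPolynomial.X 0 : MvPolynomial (Fin 1) A) ≃+*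
        (MvPolynomial (Fin 2) A ⧸ Ideal.span {(MvPolynomial.X 0 * MvPolynomial.X 1 - 1 : MvPolynomial (Fin 2) A)}),
      ∀ x, E (algebraMap (MvPolynomial (Fin 1) A) _ (MvPolynomial.C x)) = Ideal.Quotient.mk _ (MvPolynomial.C x) := by
  let T := MvPolynomial (Fin 1) A
  let I : Ideal (MvPolynomial (Fin 2) A) := Ideal.span {MvPolynomial.X 0 * MvPolynomial.X 1 - 1}
  let L := Localization.Away (MvPolynomial.X 0 : T)
  let τ : L := algebraMap T L (MvPolynomial.X 0)
  let τ' : L := IsLocalization.Away.invSelf (MvPolynomial.X 0 : T)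
  have hτ : τ * τ' = 1 := IsLocalization.Away.mul_invSelf _
  let j : A →+* L := (algebraMap T L).comp MvPolynomial.C
  let g₀ : T →+* MvPolynomial (Fin 2) A ⧸ I :=
    MvPolynomial.eval₂Hom ((Ideal.Quotient.mk I).comp MvPolynomial.C) (fun _ => Ideal.Quotient.mk I (MvPolynomial.X 0))
  have hXY : Ideal.Quotient.mk I (MvPolynomial.X 0) * Ideal.Quotient.mk I (MvPolynomial.X 1) = 1 := by
    rw [← map_mul, ← map_one (Ideal.Quotient.mk I), Ideal.Quotient.eq]
    exact Ideal.mem_span_singleton_self _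
  have hgX : g₀ (MvPolynomial.X 0) = Ideal.Quotient.mk I (MvPolynomial.X 0) := MvPolynomial.eval₂Hom_X' _ _ _
  have hgC : ∀ x, g₀ (MvPolynomial.C x) = Ideal.Quotient.mk I (MvPolynomial.C x) := fun x =>
    MvPolynomial.eval₂Hom_C _ _ _
  have hu : IsUnit (g₀ (MvPolynomial.X 0)) :=
    IsUnit.of_mul_eq_one (Ideal.Quotient.mk I (MvPolynomial.X 1)) (by rw [hgX]; exact hXY)
  let F : L →+* MvPolynomial (Fin 2) A ⧸ I := IsLocalization.Away.lift (MvPolynomial.X 0 : T) hu
  let G : MvPolynomial (Fin 2) A ⧸ I →+* L := Ideal.Quotient.lift I (MvPolynomial.eval₂Hom j ![τ, τ']) fun w hw => by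
    obtain ⟨w', rfl⟩ := Ideal.mem_span_singleton'.1 hw
    rw [map_mul, map_sub, map_mul, map_one, MvPolynomial.eval₂Hom_X', MvPolynomial.eval₂Hom_X']
    simp [hτ]
  have hGC : ∀ x, G (Ideal.Quotient.mk I (MvPolynomial.C x)) = j x := fun x => MvPolynomial.eval₂Hom_C _ _ x
  have hGX : ∀ i, G (Ideal.Quotient.mk I (MvPolynomial.X i)) = ![τ, τ'] i := fun i => MvPolynomial.eval₂Hom_X' _ _ i
  have hFT : ∀ w, F (algebraMap T L w) = g₀ w := fun w => IsLocalization.Away.lift_eq _ _ w
  have hGF : G.comp F = RingHom.id L := by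
    refine IsLocalization.ringHom_ext (Submonoid.powers (MvPolynomial.X 0 : T)) (MvPolynomial.ringHom_ext (fun x => ?_) fun i => ?_)
    · show G (F (algebraMap T L (MvPolynomial.C x))) = algebraMap T L (MvPolynomial.C x)
      rw [hFT, hgC, hGC]
      rfl
    · show G (F (algebraMap T L (MvPolynomial.X i))) = algebraMap T L (MvPolynomial.X i)
      rw [Subsingleton.elim i 0, hFT, hgX, hGX]
      rfl
  have hF1 : F τ' = Ideal.Quotient.mk I (MvPolynomial.X 1) := by
    have h1 : g₀ (MvPolynomial.X 0) * F τ' = 1 := by rw [← hFT, ← map_mul, hτ, map_one]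
    refine hu.mul_left_cancel (h1.trans ?_)
    rw [hgX]
    exact hXY.symm
  have hFG : F.comp G = RingHom.id _ := by
    refine Ideal.Quotient.ringHom_ext (MvPolynomial.ringHom_ext (fun x => ?_) fun i => ?_)
    · show F (G (Ideal.Quotient.mk I (MvPolynomial.C x))) = Ideal.Quotient.mk I (MvPolynomial.C x)
      rw [hGC]
      exact (hFT _).trans (hgC x)
    · show F (G (Ideal.Quotient.mk I (MvPolynomial.X i))) = Ideal.Quotient.mk I (MvPolynomial.X i)
      rw [hGX]
      fin_cases i
      · exact (hFT _).trans hgX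
      · exact hF1
  exact ⟨RingEquiv.ofRingHom F G hFG hGF, fun x => (hFT _).trans (hgC x)⟩

/-- The model with parameter zero or a power of the uniformiser over a discrete valuation ring. -/
theorem exists_model_dvr {R B R' Q : Type u} [CommRing R] [IsDomain R] [IsDiscreteValuationRing R] [CommRing B]
    [CommRing R'] [CommRing Q] {ϖ : R} (hϖ : Irreducible ϖ) (φ : R →+* B) (gV : R →+* R') (gU : B →+* Q)
    (p : R' →+* Q) (a : R')
    (e : MvPolynomial (Fin 2) R' ⧸
      Ideal.span {(MvPolynomial.X 0 * MvPolynomial.X 1 - MvPolynomial.C a : MvPolynomial (Fin 2) R')} →+* Q)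
    (𝔔 : Ideal Q) [𝔔.IsPrime] (hgV : gV.Etale) (hgU : gU.Etale) (he : e.Etale) (hcomp : gU.comp φ = p.comp gV)
    (hep : e.comp ((Ideal.Quotient.mk _).comp MvPolynomial.C) = p) (hcl : (𝔔.comap gU).comap φ = maximalIdeal R) :
    ∃ (R'' : Type u) (_ : CommRing R'') (_ : IsDomain R'') (_ : IsDiscreteValuationRing R'') (_ : Algebra R R'')
      (_ : Algebra.Etale R R'') (_ : Irreducible (algebraMap R R'' ϖ)) (h : MvPolynomial (Fin 2) R'')
      (_ : h = 0 ∨ ∃ n : ℕ, h = MvPolynomial.C (algebraMap R R'' ϖ ^ n))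
      (Q'' : Type u) (_ : CommRing Q'') (gU'' : B →+* Q'') (_ : gU''.Etale)
      (e'' : MvPolynomial (Fin 2) R'' ⧸ Ideal.span {MvPolynomial.X 0 * MvPolynomial.X 1 - h} →+* Q'') (_ : e''.Etale)
      (𝔔'' : Ideal Q'') (_ : 𝔔''.IsPrime), 𝔔''.comap gU'' = 𝔔.comap gU ∧
        gU''.comp φ = e''.comp ((Ideal.Quotient.mk _).comp (MvPolynomial.C.comp (algebraMap R R''))) := by
  letI := gV.toAlgebra
  haveI : Algebra.Etale R R' := hgV
  let q : Ideal R' := 𝔔.comap p
  have hq : q.comap (algebraMap R R') = maximalIdeal R := by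
    rw [← hcl, Ideal.comap_comap, Ideal.comap_comap, hcomp]
    rfl
  obtain ⟨f, hf, hdom, hdvr, hirr⟩ := exists_localization_dvr hϖ q hq
  let R'' := Localization.Away f
  haveI := hdom
  haveI := hdvr
  haveI : Algebra.Etale R R'' := Algebra.Etale.comp R R' R''
  let j : R' →+* R'' := algebraMap R' R''
  let Q'' := Localization.Away (p f)
  let jQ : Q →+* Q'' := algebraMap Q Q''
  have hjQ : jQ.Etale := RingHom.etale_algebraMap.2 (Algebra.Etale.of_isLocalizationAway (p f))
  let p'' : R'' →+* Q'' := IsLocalization.Away.lift f (g := jQ.comp p) (IsLocalization.Away.algebraMap_isUnit (p f))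
  have hp'' : ∀ x, p'' (j x) = jQ (p x) := fun x => IsLocalization.Away.lift_eq _ _ x
  -- the polynomial rings
  let T' := MvPolynomial (Fin 2) R'
  let T'' := MvPolynomial (Fin 2) R''
  let ι : T' →+* T'' := MvPolynomial.map j
  have hι : ι.Etale := by
    letI : Algebra T' T'' := ι.toAlgebra
    haveI : IsLocalization ((Submonoid.powers f).map (MvPolynomial.C : R' →+* T')) T'' :=
      MvPolynomial.isLocalization (σ := Fin 2) (Submonoid.powers f) R''
    rw [Submonoid.map_powers] at *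
    haveI : IsLocalization.Away (MvPolynomial.C f : T') T'' := ‹_›
    exact Algebra.Etale.of_isLocalizationAway (MvPolynomial.C f : T')
  let I' : Ideal T' := Ideal.span {MvPolynomial.X 0 * MvPolynomial.X 1 - MvPolynomial.C a}
  let I'' : Ideal T'' := Ideal.span {MvPolynomial.X 0 * MvPolynomial.X 1 - MvPolynomial.C (j a)}
  have hI : I'' = I'.map ι := by
    rw [Ideal.map_span, Set.image_singleton, map_sub, map_mul, MvPolynomial.map_X, MvPolynomial.map_X,
      MvPolynomial.map_C]
  let ιq : T' ⧸ I' →+* T'' ⧸ I'' := Ideal.quotientMap I'' ι (hI ▸ Ideal.le_comap_map : I' ≤ I''.comap ι)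
  have hιq : RingHom.Etale (R := T' ⧸ I') (S := T'' ⧸ I'') ιq := etale_quotientMap ι hι I' I'' hI
  let e₂ : T'' ⧸ I'' →+* Q'' := Ideal.Quotient.lift I'' (MvPolynomial.eval₂Hom p''
      fun i => jQ (e (Ideal.Quotient.mk I' (MvPolynomial.X i)))) fun w hw => by
    obtain ⟨w', rfl⟩ := Ideal.mem_span_singleton'.1 hw
    rw [map_mul, map_sub, map_mul, MvPolynomial.eval₂Hom_X', MvPolynomial.eval₂Hom_X', MvPolynomial.eval₂Hom_C, hp'',
      show p a = e (Ideal.Quotient.mk I' (MvPolynomial.C a)) from (RingHom.congr_fun hep a).symm, ← map_mul, ← map_mul, ← map_mul, ← map_sub, ← map_sub, ← map_sub,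
      Ideal.Quotient.eq_zero_iff_mem.2 (Ideal.mem_span_singleton_self _), map_zero, map_zero, mul_zero]
  have he₂c : e₂.comp ιq = jQ.comp e := by
    refine Ideal.Quotient.ringHom_ext (MvPolynomial.ringHom_ext (fun x => ?_) fun i => ?_)
    · show MvPolynomial.eval₂Hom p'' _ (ι (MvPolynomial.C x)) = jQ (e (Ideal.Quotient.mk I' (MvPolynomial.C x)))
      rw [MvPolynomial.map_C, MvPolynomial.eval₂Hom_C, hp'']
      exact congrArg jQ (RingHom.congr_fun hep x).symm
    · show MvPolynomial.eval₂Hom p'' _ (ι (MvPolynomial.X i)) = jQ (e (Ideal.Quotient.mk I' (MvPolynomial.X i)))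
      rw [MvPolynomial.map_X, MvPolynomial.eval₂Hom_X']
  have he₂ : RingHom.Etale (R := T'' ⧸ I'') (S := Q'') e₂ := by
    have h := RingHom.Etale.stableUnderComposition _ _ he hjQ
    rw [← he₂c] at h
    exact etale_of_comp (A := T' ⧸ I') (B := T'' ⧸ I'') (C := Q'') ιq e₂ hιq h
  -- the parameter
  obtain ⟨h, hh, Θ, hΘ, hΘC⟩ : ∃ (h : T'') (_ : h = 0 ∨ ∃ n : ℕ, h = MvPolynomial.C (algebraMap R R'' ϖ ^ n))
      (Θ : T'' ⧸ Ideal.span {MvPolynomial.X 0 * MvPolynomial.X 1 - h} →+* T'' ⧸ I''),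
      RingHom.Etale (R := T'' ⧸ Ideal.span {MvPolynomial.X 0 * MvPolynomial.X 1 - h}) (S := T'' ⧸ I'') Θ ∧ ∀ x, Θ (Ideal.Quotient.mk _ (MvPolynomial.C x)) = Ideal.Quotient.mk I'' (MvPolynomial.C x) := by
    obtain ⟨w, c, hc, hac⟩ : ∃ (w : R''ˣ) (c : R''), (c = 0 ∨ ∃ n : ℕ, c = algebraMap R R'' ϖ ^ n) ∧ j a = w * c := by
      by_cases ha : j a = 0
      · exact ⟨1, 0, Or.inl rfl, by rw [ha, mul_zero]⟩
      · obtain ⟨n, w, hw⟩ := IsDiscreteValuationRing.eq_unit_mul_pow_irreducible ha hirr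
        exact ⟨w, _, Or.inr ⟨n, rfl⟩, hw⟩
    let s : T'' →+* T'' := MvPolynomial.eval₂Hom MvPolynomial.C
      ![MvPolynomial.C (↑w⁻¹ : R'') * MvPolynomial.X 0, MvPolynomial.X 1]
    let s' : T'' →+* T'' := MvPolynomial.eval₂Hom MvPolynomial.C
      ![MvPolynomial.C (w : R'') * MvPolynomial.X 0, MvPolynomial.X 1]
    let J : Ideal T'' := Ideal.span {MvPolynomial.X 0 * MvPolynomial.X 1 - MvPolynomial.C c}
    have sC : ∀ x, s (MvPolynomial.C x) = MvPolynomial.C x := fun x => MvPolynomial.eval₂Hom_C _ _ x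
    have s'C : ∀ x, s' (MvPolynomial.C x) = MvPolynomial.C x := fun x => MvPolynomial.eval₂Hom_C _ _ x
    have s0 : s (MvPolynomial.X 0) = MvPolynomial.C (↑w⁻¹ : R'') * MvPolynomial.X 0 := MvPolynomial.eval₂Hom_X' _ _ 0
    have s1 : s (MvPolynomial.X 1) = MvPolynomial.X 1 := MvPolynomial.eval₂Hom_X' _ _ 1
    have s'0 : s' (MvPolynomial.X 0) = MvPolynomial.C (w : R'') * MvPolynomial.X 0 := MvPolynomial.eval₂Hom_X' _ _ 0
    have s'1 : s' (MvPolynomial.X 1) = MvPolynomial.X 1 := MvPolynomial.eval₂Hom_X' _ _ 1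
    have hCw : (MvPolynomial.C (↑w⁻¹ : R'') : T'') * MvPolynomial.C (w : R'') = 1 := by
      rw [← map_mul, w.inv_mul, map_one]
    have hCa : (MvPolynomial.C (j a) : T'') = MvPolynomial.C (w : R'') * MvPolynomial.C c := by rw [← map_mul, hac]
    have hs : s (MvPolynomial.X 0 * MvPolynomial.X 1 - MvPolynomial.C c) =
        MvPolynomial.C (↑w⁻¹ : R'') * (MvPolynomial.X 0 * MvPolynomial.X 1 - MvPolynomial.C (j a)) := by
      rw [map_sub, map_mul, s0, s1, sC, hCa]
      linear_combination (MvPolynomial.C c : T'') * hCw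
    have hs' : s' (MvPolynomial.X 0 * MvPolynomial.X 1 - MvPolynomial.C (j a)) =
        MvPolynomial.C (w : R'') * (MvPolynomial.X 0 * MvPolynomial.X 1 - MvPolynomial.C c) := by
      rw [map_sub, map_mul, s'0, s'1, s'C, hCa]
      ring
    let Θ : T'' ⧸ J →+* T'' ⧸ I'' := Ideal.quotientMap I'' s (Ideal.span_le.2 (by
      rintro _ rfl
      show s _ ∈ I''
      rw [hs]
      exact Ideal.mul_mem_left _ _ (Ideal.mem_span_singleton_self _)))
    let Θ' : T'' ⧸ I'' →+* T'' ⧸ J := Ideal.quotientMap J s' (Ideal.span_le.2 (by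
      rintro _ rfl
      show s' _ ∈ J
      rw [hs']
      exact Ideal.mul_mem_left _ _ (Ideal.mem_span_singleton_self _)))
    have hΘm : ∀ z, Θ (Ideal.Quotient.mk J z) = Ideal.Quotient.mk I'' (s z) := fun z => rfl
    have hΘ'm : ∀ z, Θ' (Ideal.Quotient.mk I'' z) = Ideal.Quotient.mk J (s' z) := fun z => rfl
    have h1 : Θ'.comp Θ = RingHom.id _ := Ideal.Quotient.ringHom_ext (MvPolynomial.ringHom_ext
      (fun x => show Θ' (Θ (Ideal.Quotient.mk J (MvPolynomial.C x))) = Ideal.Quotient.mk J (MvPolynomial.C x) by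
        rw [hΘm, hΘ'm, sC, s'C]) fun i =>
      show Θ' (Θ (Ideal.Quotient.mk J (MvPolynomial.X i))) = Ideal.Quotient.mk J (MvPolynomial.X i) by
        fin_cases i
        · simp only [Fin.zero_eta, hΘm, hΘ'm]; rw [s0, map_mul, s'C, s'0, ← mul_assoc, hCw, one_mul]
        · simp only [Fin.mk_one, hΘm, hΘ'm]; rw [s1, s'1])
    have h2 : Θ.comp Θ' = RingHom.id _ := Ideal.Quotient.ringHom_ext (MvPolynomial.ringHom_ext
      (fun x => show Θ (Θ' (Ideal.Quotient.mk I'' (MvPolynomial.C x))) = Ideal.Quotient.mk I'' (MvPolynomial.C x) by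
        rw [hΘ'm, hΘm, s'C, sC]) fun i =>
      show Θ (Θ' (Ideal.Quotient.mk I'' (MvPolynomial.X i))) = Ideal.Quotient.mk I'' (MvPolynomial.X i) by
        fin_cases i
        · simp only [Fin.zero_eta, hΘm, hΘ'm]; rw [s'0, map_mul, sC, s0, ← mul_assoc, mul_comm (MvPolynomial.C (w : R'')), hCw, one_mul]
        · simp only [Fin.mk_one, hΘm, hΘ'm]; rw [s'1, s1])
    have hbij : Function.Bijective Θ := ⟨Function.LeftInverse.injective (g := Θ') fun x => RingHom.congr_fun h1 x,
      Function.RightInverse.surjective (g := Θ') fun x => RingHom.congr_fun h2 x⟩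
    have hh : (MvPolynomial.C c : T'') = 0 ∨ ∃ n : ℕ, (MvPolynomial.C c : T'') = MvPolynomial.C (algebraMap R R'' ϖ ^ n) := by
      rcases hc with rfl | ⟨n, rfl⟩
      exacts [Or.inl (map_zero _), Or.inr ⟨n, rfl⟩]
    refine ⟨MvPolynomial.C c, hh, Θ, ?_, fun x => (hΘm _).trans (congrArg _ (sC x))⟩
    exact RingHom.Etale.of_bijective (R := T'' ⧸ J) (S := T'' ⧸ I'') (f := Θ) hbij
  have hQf : p f ∉ 𝔔 := hf
  have hdisj : Disjoint (Submonoid.powers (p f) : Set Q) 𝔔 := Set.disjoint_left.2 fun x ⟨n, hn⟩ hxq => by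
    subst hn
    exact hQf (Ideal.IsPrime.mem_of_pow_mem ‹_› n hxq)
  haveI : (𝔔.map jQ).IsPrime := IsLocalization.isPrime_of_isPrime_disjoint (.powers (p f)) Q'' 𝔔 ‹_› hdisj
  refine ⟨R'', inferInstance, hdom, hdvr, inferInstance, inferInstance, hirr, h, hh, Q'', inferInstance, jQ.comp gU,
    RingHom.Etale.stableUnderComposition _ _ hgU hjQ, e₂.comp Θ, RingHom.Etale.stableUnderComposition _ _ hΘ he₂,
    𝔔.map jQ, inferInstance, ?_, ?_⟩
  · rw [← Ideal.comap_comap]
    exact congrArg (Ideal.comap gU) (IsLocalization.comap_map_of_isPrime_disjoint (.powers (p f)) Q'' ‹_› hdisj)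
  · refine RingHom.ext fun x => ?_
    show jQ (gU (φ x)) = e₂ (Θ (Ideal.Quotient.mk _ (MvPolynomial.C (algebraMap R R'' x))))
    rw [hΘC]
    show _ = MvPolynomial.eval₂Hom p'' _ (MvPolynomial.C (algebraMap R R'' x))
    rw [MvPolynomial.eval₂Hom_C, IsScalarTower.algebraMap_apply R R' R'', hp'']
    exact congrArg jQ (RingHom.congr_fun hcomp x)

end Groth.Agent.NodePtLib.EtaleLocal
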