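import Groth.Agent.NodePtLib.EtaleLocal.Chart
import Mathlib.FieldTheory.IsAlgClosed.AlgebraicClosure
import Mathlib.RingTheory.Ideal.IdempotentFG

/-!
# The étale local model of a node
-/

set_option autoImplicit false
set_option backward.isDefEq.respectTransparency false
set_option linter.unusedSectionVars false
set_option linter.style.haveILetI false

universe u

open IsLocalRing TensorProduct KaehlerDifferential

noncomputable section

namespace Groth.Agent.NodePtLib.EtaleLocal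

theorem bijective_algebraMap_polyQuot (R : Type u) [CommRing R] (ι : Type) :
    Function.Bijective (algebraMap R (MvPolynomial ι R ⧸ Ideal.span (Set.range (MvPolynomial.X (R := R) (σ := ι))))) := by
  let I : Ideal (MvPolynomial ι R) := Ideal.span (Set.range MvPolynomial.X)
  let ε : MvPolynomial ι R ⧸ I →+* R := Ideal.Quotient.lift I MvPolynomial.constantCoeff fun w hw => by
    refine RingHom.mem_ker.1 ((Ideal.span_le.2 ?_) hw)
    rintro _ ⟨i, rfl⟩
    simp
  refine ⟨fun r s h => ?_, fun w => ?_⟩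
  · have he : ∀ t, ε (algebraMap R _ t) = t := fun t => by
      show MvPolynomial.constantCoeff (MvPolynomial.C t) = t
      simp
    exact (he r).symm.trans ((congrArg ε h).trans (he s))
  · obtain ⟨w, rfl⟩ := Ideal.Quotient.mk_surjective w
    refine ⟨MvPolynomial.constantCoeff w, ?_⟩
    show Ideal.Quotient.mk I (MvPolynomial.C (MvPolynomial.constantCoeff w)) = Ideal.Quotient.mk I w
    induction w using MvPolynomial.induction_on with
    | C r => simp
    | add p p' hp hp' => rw [map_add, map_add, map_add, hp, hp', map_add]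
    | mul_X p i _ =>
      rw [map_mul, MvPolynomial.constantCoeff_X, mul_zero, map_zero, map_zero, map_mul,
        Ideal.Quotient.eq_zero_iff_mem.2 (Ideal.subset_span (Set.mem_range_self i) : MvPolynomial.X i ∈ I), mul_zero]

/-- The value of a function at a section, to first order. -/
theorem sub_sum_mem_sq {C P : Type u} [CommRing C] [CommRing P] [Algebra C P] {ι : Type} [Fintype ι] [DecidableEq ι]
    (b : Module.Basis ι P Ω[P⁄C]) (u : ι → P) (hu : ∀ i, b i = D C P (u i)) (s : P →ₐ[C] C)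
    (hsu : ∀ i, s (u i) = 0) (w : P) :
    w - algebraMap C P (s w) - ∑ i, pd b i w * u i ∈ RingHom.ker s * RingHom.ker s := by
  let K := RingHom.ker s
  let mk : P →ₐ[C] P ⧸ K * K := Ideal.Quotient.mkₐ C (K * K)
  let l : P →ₗ[C] P ⧸ K * K := mk.toLinearMap - ((mk.comp (Algebra.ofId C P)).comp s).toLinearMap
  have hl : ∀ z, l z = Ideal.Quotient.mk (K * K) (z - algebraMap C P (s z)) := fun z => (map_sub mk _ _).symm
  let d : Derivation C P (P ⧸ K * K) := Derivation.mk' l fun z z' => by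
    rw [hl, hl, hl, Algebra.smul_def, Algebra.smul_def, Ideal.Quotient.algebraMap_eq, ← map_mul, ← map_mul, ← map_add,
      Ideal.Quotient.eq, map_mul, map_mul]
    have h : ∀ z, z - algebraMap C P (s z) ∈ K := fun z => by simp [K, RingHom.mem_ker]
    have h2 := neg_mem (Ideal.mul_mem_mul (h z) (h z'))
    convert h2 using 1
    ring
  have h1 := derivation_eq_sum b u hu d w
  simp only [d, Derivation.coe_mk', hl, hsu, map_zero, sub_zero, Algebra.smul_def, Ideal.Quotient.algebraMap_eq,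
    ← map_mul, ← map_sum] at h1
  exact Ideal.Quotient.eq.1 h1

/-- A family is étale locally isomorphic to `u v = a` at a node. -/
theorem exists_etale_model {R B : Type u} [CommRing R] [CommRing B] [Algebra R B] [Algebra.FinitePresentation R B]
    [Module.Flat R B] (𝔭 : Ideal B) [𝔭.IsPrime] (hnode : NodeData R 𝔭) :
    ∃ (R' Q : Type u) (_ : CommRing R') (_ : CommRing Q) (gV : R →+* R') (gU : B →+* Q) (p : R' →+* Q) (a : R')
      (e : MvPolynomial (Fin 2) R' ⧸
        Ideal.span {(MvPolynomial.X 0 * MvPolynomial.X 1 - MvPolynomial.C a : MvPolynomial (Fin 2) R')} →+* Q)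
      (𝔔 : Ideal Q) (_ : 𝔔.IsPrime),
      gV.Etale ∧ gU.Etale ∧ e.Etale ∧ gU.comp (algebraMap R B) = p.comp gV ∧
      e.comp ((Ideal.Quotient.mk _).comp MvPolynomial.C) = p ∧ 𝔔.comap gU = 𝔭 := by
  classical
  obtain ⟨P, _, _, _, b, t, ht, F, φ, Q₀, _, hφ, hQ₀, hG, hdet⟩ := exists_chart 𝔭 hnode
  let 𝔓 : Ideal P := Q₀.comap (Ideal.Quotient.mk (Ideal.span {F}))
  haveI : 𝔓.IsPrime := Ideal.IsPrime.comap _
  have hF : F ∈ 𝔓 := by
    show Ideal.Quotient.mk _ F ∈ Q₀
    rw [Ideal.Quotient.eq_zero_iff_mem.2 (Ideal.mem_span_singleton_self F)]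
    exact zero_mem _
  -- the base
  let G : Fin 2 → P := fun i => pd b i F
  obtain ⟨C, _, _, c, hcs, hkerc, hCet⟩ : ∃ (C : Type u) (_ : CommRing C) (_ : Algebra R C) (c : P →ₐ[R] C),
      Function.Surjective c ∧ RingHom.ker c.toRingHom = Ideal.span (Set.range G) ∧ Algebra.Etale R C := by
    refine ⟨P ⧸ Ideal.span (Set.range G), inferInstance, inferInstance, Ideal.Quotient.mkₐ R _,
      Ideal.Quotient.mk_surjective, Ideal.mk_ker, ?_⟩
    refine RingHom.etale_algebraMap.1 ?_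
    have h1 := etale_quotientMap _ (etale_of_det b G hdet) (Ideal.span (Set.range MvPolynomial.X))
      (Ideal.span (Set.range G)) (by
        rw [Ideal.map_span, ← Set.range_comp]
        congr 2
        funext i
        exact (MvPolynomial.aeval_X G i).symm)
    have h2 := RingHom.Etale.stableUnderComposition _ _
      (RingHom.Etale.of_bijective (bijective_algebraMap_polyQuot R (Fin 2))) h1
    convert h2 using 1
    refine RingHom.ext fun r => ?_
    show algebraMap R (P ⧸ Ideal.span (Set.range G)) r = Ideal.Quotient.mk _ ((MvPolynomial.aeval G) (MvPolynomial.C r))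
    rw [MvPolynomial.aeval_C]
    rfl
  haveI := hCet
  let 𝔓C : Ideal C := 𝔓.map c.toRingHom
  have hkc : RingHom.ker c.toRingHom ≤ 𝔓 := by
    rw [hkerc, Ideal.span_le]
    rintro _ ⟨i, rfl⟩
    exact hG i
  haveI : 𝔓C.IsPrime := Ideal.map_isPrime_of_surjective hcs hkc
  have hC𝔓 : ∀ p, c p ∈ 𝔓C ↔ p ∈ 𝔓 := fun p => by
    refine ⟨fun h => ?_, fun h => Ideal.mem_map_of_mem _ h⟩
    obtain ⟨p', hp', e⟩ := (Ideal.mem_map_iff_of_surjective c.toRingHom hcs).1 h
    rw [show p = p' + (p - p') by ring]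
    exact add_mem hp' (hkc (RingHom.mem_ker.2 (by rw [map_sub, e]; exact sub_self _)))
  -- the family over the base
  let P' := C ⊗[R] P
  letI : Algebra P P' := Algebra.TensorProduct.rightAlgebra
  haveI : IsScalarTower R P P' := IsScalarTower.of_algebraMap_eq fun r =>
    ((Algebra.TensorProduct.includeRight : P →ₐ[R] P').commutes r).symm
  haveI : Algebra.IsPushout R C P P' := TensorProduct.isPushout
  haveI : Algebra.Etale P P' := Algebra.Etale.of_equiv
    ({ (Algebra.TensorProduct.comm R P C).toRingEquiv with commutes' := fun p => rfl } : (P ⊗[R] C) ≃ₐ[P] P')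
  haveI : Algebra.FinitePresentation R P := inferInstance
  obtain ⟨b', hb', hb''⟩ := exists_basis_pushout (R' := C) (Q := P') b
  let c' : P' →ₐ[C] C := Algebra.TensorProduct.lift (AlgHom.id C C) c fun _ _ => Commute.all _ _
  have hc' : ∀ p, c' (algebraMap P P' p) = c p := fun p => by
    show c' ((1 : C) ⊗ₜ p) = c p
    exact (Algebra.TensorProduct.lift_tmul _ _ _ 1 p).trans (by simp)
  let u₀ : Fin 2 → P' := fun i => algebraMap P P' (t i) - algebraMap C P' (c (t i))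
  have hu₀ : ∀ i, b' i = D C P' (u₀ i) := fun i => by
    rw [hb'' i _ (ht i), map_sub, Derivation.map_algebraMap, sub_zero]
  have hcu₀ : ∀ i, c' (u₀ i) = 0 := fun i => by
    rw [map_sub, hc', AlgHom.commutes]
    exact sub_self _
  let K := RingHom.ker c'
  have hK : K.FG := Algebra.FinitePresentation.ker_fG_of_surjective c' fun w => ⟨algebraMap C P' w, c'.commutes w⟩
  have hexp := sub_sum_mem_sq b' u₀ hu₀ c' hcu₀
  let I₀ : Ideal P' := Ideal.span (Set.range u₀)
  have hI₀ : I₀ ≤ K := Ideal.span_le.2 (by rintro _ ⟨i, rfl⟩; exact hcu₀ i)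
  obtain ⟨e, he, he'⟩ : ∃ e : P', c' e = 1 ∧ ∀ k ∈ K, e * k ∈ I₀ := by
    let N := K.map (Ideal.Quotient.mk I₀)
    have hN : N ≤ N * N := by
      rw [← Ideal.map_mul, Ideal.map_le_iff_le_comap]
      intro k hk
      have h1 := hexp k
      rw [show c' k = 0 from hk, map_zero, sub_zero] at h1
      rw [Ideal.mem_comap, show Ideal.Quotient.mk I₀ k = Ideal.Quotient.mk I₀ (k - ∑ i, pd b' i k * u₀ i) from
        Ideal.Quotient.eq.2 (by
          rw [sub_sub_cancel]
          exact Submodule.sum_mem _ fun i _ => Ideal.mul_mem_left _ _ (Ideal.subset_span (Set.mem_range_self i)))]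
      exact Ideal.mem_map_of_mem _ h1
    obtain ⟨ε, hε, hε'⟩ := (Ideal.isIdempotentElem_iff_of_fg N (hK.map _)).1 (le_antisymm Ideal.mul_le_left hN)
    obtain ⟨ε₀, hε₀, rfl⟩ := (Ideal.mem_map_iff_of_surjective _ Ideal.Quotient.mk_surjective).1
      (hε'.ge (Ideal.mem_span_singleton_self ε) : ε ∈ N)
    refine ⟨1 - ε₀, by rw [map_sub, map_one, show c' ε₀ = 0 from hε₀, sub_zero], fun k hk => ?_⟩
    obtain ⟨r, hr⟩ := Ideal.mem_span_singleton'.1 (hε'.le (Ideal.mem_map_of_mem _ hk : Ideal.Quotient.mk I₀ k ∈ N))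
    rw [← Ideal.Quotient.eq_zero_iff_mem, map_mul, map_sub, map_one, ← hr,
      show (1 - Ideal.Quotient.mk I₀ ε₀) * (r * Ideal.Quotient.mk I₀ ε₀) =
        r * (Ideal.Quotient.mk I₀ ε₀ - Ideal.Quotient.mk I₀ ε₀ * Ideal.Quotient.mk I₀ ε₀) by ring, hε.eq, sub_self,
      mul_zero]
  let H : P' := algebraMap P P' F - algebraMap C P' (c F)
  have hHd : ∀ i, pd b' i H = algebraMap P P' (G i) := fun i => by
    rw [map_sub, hb', Derivation.map_algebraMap, sub_zero]
  have hcG : ∀ i, c (G i) = 0 := fun i => RingHom.mem_ker.1 (hkerc.ge (Ideal.subset_span (Set.mem_range_self i)))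
  have hH : H ∈ K * K := by
    have hcH : c' H = 0 := by rw [map_sub, hc', AlgHom.commutes]; exact sub_self _
    have h1 := hexp H
    rw [hcH, map_zero, sub_zero] at h1
    rw [show H = (H - ∑ i, pd b' i H * u₀ i) + ∑ i, pd b' i H * u₀ i by ring]
    refine add_mem h1 (Submodule.sum_mem _ fun i _ => Ideal.mul_mem_mul ?_ (hcu₀ i))
    show c' (pd b' i H) = 0
    rw [hHd, hc', hcG]
  obtain ⟨A₀, B₀, C₀, hABC⟩ : ∃ A₀ B₀ C₀, e * e * H = qv A₀ B₀ C₀ (u₀ 0) (u₀ 1) := by
    have h1 : e * e * H ∈ I₀ * I₀ := by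
      refine Submodule.mul_induction_on hH (fun k hk k' hk' => ?_) (fun x y hx hy => by rw [mul_add]; exact add_mem hx hy)
      rw [show e * e * (k * k') = (e * k) * (e * k') by ring]
      exact Ideal.mul_mem_mul (he' k hk) (he' k' hk')
    have h2 : I₀ = Ideal.span {u₀ 0, u₀ 1} := by
      refine congrArg Ideal.span ?_
      ext w
      simp [Fin.exists_fin_two, eq_comm]
    rw [h2, Ideal.span_pair_mul_span_pair] at h1
    simp only [Ideal.mem_span_insert, Ideal.mem_span_singleton'] at h1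
    obtain ⟨r1, _, ⟨r2, _, ⟨r3, _, ⟨r4, rfl⟩, rfl⟩, rfl⟩, h1⟩ := h1
    exact ⟨r1, r2 + r3, r4, by rw [h1]; simp only [qv]; ring⟩
  have hpd₀ : ∀ i j, pd b' i (u₀ j) = if j = i then 1 else 0 := pd_coord b' u₀ hu₀
  have hΔ₀ : IsUnit (c' (4 * A₀ * C₀ - B₀ ^ 2)) := by
    have hcc : ∀ i j, c' (pd b' i (pd b' j (e * e * H))) = c (pd b i (pd b j F)) := fun i j => by
      have hcH : c' H = 0 := (Ideal.mul_le_left hH : H ∈ K)
      simp only [Derivation.leibniz, smul_eq_mul, map_add, map_mul, hHd, hb', hc', he, hcH, hcG, G]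
      ring
    have h := hdet.map c
    rw [AlgHom.map_det] at h
    convert h using 1
    rw [Matrix.det_fin_two]
    simp only [AlgHom.mapMatrix_apply, Matrix.map_apply, Matrix.of_apply, ← hcc, hABC]
    simp [qv, Derivation.leibniz, Derivation.leibniz_pow, hpd₀, hcu₀]
    rw [show c' (2 : P') = 2 from map_ofNat c' 2, show c' (4 : P') = 4 from map_ofNat c' 4]
    ring
  let 𝔓' : Ideal P' := 𝔓C.comap c'.toRingHom
  haveI : 𝔓'.IsPrime := Ideal.IsPrime.comap _
  have hu0' : ∀ i, u₀ i ∈ 𝔓' := fun i => by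
    show c' (u₀ i) ∈ 𝔓C
    rw [hcu₀]; exact zero_mem _
  have he𝔓 : e ∉ 𝔓' := fun h => by
    have h' : c' e ∈ 𝔓C := h
    rw [he] at h'
    exact (inferInstance : 𝔓C.IsPrime).ne_top ((Ideal.eq_top_iff_one _).2 h')
  have hΔ𝔓 : 4 * A₀ * C₀ - B₀ ^ 2 ∉ 𝔓' := fun h =>
    (inferInstance : 𝔓C.IsPrime).ne_top (Ideal.eq_top_of_isUnit_mem _ h hΔ₀)
  -- a good pair of coordinates
  obtain ⟨U, A, B', C', hU, hUdet, hA, hΔ, hHU⟩ : ∃ (U : Fin 2 → P') (A B' C' : P'), (∀ i, U i ∈ 𝔓') ∧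
      IsUnit (Matrix.of fun i j => pd b' i (U j)).det ∧ A ∉ 𝔓' ∧ 4 * A * C' - B' ^ 2 ∉ 𝔓' ∧
      e * e * H = qv A B' C' (U 0) (U 1) := by
    by_cases hA : A₀ ∈ 𝔓'
    · by_cases hC : C₀ ∈ 𝔓'
      · refine ⟨![u₀ 0, u₀ 1 - u₀ 0], A₀ + B₀ + C₀, B₀ + 2 * C₀, C₀, ?_, ?_, ?_, ?_, ?_⟩
        · intro i
          fin_cases i
          exacts [hu0' 0, sub_mem (hu0' 1) (hu0' 0)]
        · rw [Matrix.det_fin_two]; simp [hpd₀]
        · intro h
          have hB : B₀ ∈ 𝔓' := by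
            rw [show B₀ = A₀ + B₀ + C₀ - A₀ - C₀ by ring]; exact sub_mem (sub_mem h hA) hC
          exact hΔ𝔓 (sub_mem (Ideal.mul_mem_left _ _ hC) (by rw [pow_two]; exact Ideal.mul_mem_left _ _ hB))
        · rw [show 4 * (A₀ + B₀ + C₀) * C₀ - (B₀ + 2 * C₀) ^ 2 = 4 * A₀ * C₀ - B₀ ^ 2 by ring]; exact hΔ𝔓
        · rw [hABC]
          simp only [qv, Matrix.cons_val_zero, Matrix.cons_val_one, Matrix.cons_val_fin_one]
          ring
      · refine ⟨![u₀ 1, u₀ 0], C₀, B₀, A₀, ?_, ?_, hC, ?_, ?_⟩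
        · intro i
          fin_cases i
          exacts [hu0' 1, hu0' 0]
        · rw [Matrix.det_fin_two]; simp [hpd₀]
        · rw [show 4 * C₀ * A₀ - B₀ ^ 2 = 4 * A₀ * C₀ - B₀ ^ 2 by ring]; exact hΔ𝔓
        · rw [hABC]
          simp only [qv, Matrix.cons_val_zero, Matrix.cons_val_one, Matrix.cons_val_fin_one]
          ring
    · refine ⟨u₀, A₀, B₀, C₀, hu0', ?_, hA, hΔ𝔓, hABC⟩
      rw [Matrix.det_fin_two]; simp [hpd₀]
  have heA : e * A ∉ 𝔓' := fun h => ((inferInstance : 𝔓'.IsPrime).mem_or_mem h).elim he𝔓 hA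
  -- the roots of the quadratic form
  let P₃ := Localization.Away (e * A)
  haveI : Algebra.Etale P' P₃ := Algebra.Etale.of_isLocalizationAway (e * A)
  have huAe : IsUnit (algebraMap P' P₃ e) ∧ IsUnit (algebraMap P' P₃ A) := by
    have := IsLocalization.Away.algebraMap_isUnit (S := P₃) (e * A)
    rw [map_mul] at this
    exact ⟨isUnit_of_mul_isUnit_left this, isUnit_of_mul_isUnit_right this⟩
  obtain ⟨⟨εu, hεu⟩, ⟨Au, hAu⟩⟩ := huAe
  let α : P₃ := algebraMap P' P₃ A * ↑εu⁻¹ * ↑εu⁻¹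
  let β : P₃ := algebraMap P' P₃ B' * ↑Au⁻¹
  let γ : P₃ := algebraMap P' P₃ C' * ↑Au⁻¹
  have hH₃ : algebraMap P' P₃ H = α * (algebraMap P' P₃ (U 0) ^ 2 + β * algebraMap P' P₃ (U 0) * algebraMap P' P₃ (U 1) +
      γ * algebraMap P' P₃ (U 1) ^ 2) := by
    have h := congrArg (algebraMap P' P₃) hHU
    simp only [qv, map_mul, map_add, map_pow, ← hεu, ← hAu] at h
    simp only [α, β, γ, ← hAu]
    refine (εu * εu).isUnit.mul_left_cancel ?_
    rw [Units.val_mul, h]
    linear_combination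
      -((↑Au : P₃) * (algebraMap P' P₃ (U 0) ^ 2 + algebraMap P' P₃ B' * ↑Au⁻¹ * algebraMap P' P₃ (U 0) * algebraMap P' P₃ (U 1) +
        algebraMap P' P₃ C' * ↑Au⁻¹ * algebraMap P' P₃ (U 1) ^ 2)) *
          ((εu : P₃) * ↑εu⁻¹ + 1) * εu.mul_inv -
      (algebraMap P' P₃ B' * algebraMap P' P₃ (U 0) * algebraMap P' P₃ (U 1) +
        algebraMap P' P₃ C' * algebraMap P' P₃ (U 1) ^ 2) * Au.mul_inv
  let S : StandardEtalePair P₃ :=
    { f := Polynomial.X ^ 2 + Polynomial.C β * Polynomial.X + Polynomial.C γ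
      monic_f := by monicity!
      g := 2 * Polynomial.X + Polynomial.C β
      cond := ⟨1, 0, 1, by simp [Polynomial.derivative_X_pow, Polynomial.C_ofNat, one_add_one_eq_two]⟩ }
  let P₄ := S.Ring
  letI : Algebra P' P₄ := ((algebraMap P₃ P₄).comp (algebraMap P' P₃)).toAlgebra
  haveI : IsScalarTower P' P₃ P₄ := IsScalarTower.of_algebraMap_eq' rfl
  haveI : Algebra.Etale P' P₄ := Algebra.Etale.comp P' P₃ P₄
  letI : Algebra C P₄ := ((algebraMap P' P₄).comp (algebraMap C P')).toAlgebra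
  haveI : IsScalarTower C P' P₄ := IsScalarTower.of_algebraMap_eq' rfl
  obtain ⟨b₄, hb₄, -⟩ := exists_basis_etale (R := C) (Q := P₄) b'
  let θ : P₄ := S.X
  have hθ : θ ^ 2 + algebraMap P₃ P₄ β * θ + algebraMap P₃ P₄ γ = 0 := by
    have := S.hasMap_X.1
    simpa [S, θ] using this
  let U₄ : Fin 2 → P₄ := fun i => algebraMap P' P₄ (U i)
  let L : Fin 2 → P₄ := ![algebraMap P₃ P₄ α * (U₄ 0 - θ * U₄ 1), U₄ 0 + (θ + algebraMap P₃ P₄ β) * U₄ 1]
  have hLL : L 0 * L 1 = algebraMap P' P₄ H := by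
    rw [IsScalarTower.algebraMap_apply P' P₃ P₄, hH₃]
    simp only [L, U₄, Matrix.cons_val_zero, Matrix.cons_val_one, Matrix.cons_val_fin_one, map_mul, map_add, map_pow,
      ← IsScalarTower.algebraMap_apply P' P₃ P₄]
    linear_combination -algebraMap P₃ P₄ α * algebraMap P' P₄ (U 1) ^ 2 * hθ
  -- the point
  let K₀ := AlgebraicClosure 𝔓'.ResidueField
  let χ : P' →+* K₀ := (algebraMap 𝔓'.ResidueField K₀).comp (algebraMap P' 𝔓'.ResidueField)
  have hχ : ∀ w, χ w = 0 ↔ w ∈ 𝔓' := fun w => by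
    rw [RingHom.comp_apply, map_eq_zero, Ideal.algebraMap_residueField_eq_zero]
  have hχeA : IsUnit (χ (e * A)) := isUnit_iff_ne_zero.2 fun h => heA ((hχ _).1 h)
  let χ₃ : P₃ →+* K₀ := IsLocalization.Away.lift (e * A) hχeA
  have hχ₃ : ∀ w, χ₃ (algebraMap P' P₃ w) = χ w := fun w => IsLocalization.Away.lift_eq _ _ w
  letI : Algebra P₃ K₀ := χ₃.toAlgebra
  obtain ⟨θ₀, hθ₀⟩ := IsAlgClosed.exists_root (Polynomial.X ^ 2 + Polynomial.C (χ₃ β) * Polynomial.X + Polynomial.C (χ₃ γ))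
    (by
      have hd : (Polynomial.X ^ 2 + Polynomial.C (χ₃ β) * Polynomial.X + Polynomial.C (χ₃ γ)).degree = 2 := by
        compute_degree!
      rw [hd]; decide)
  simp only [Polynomial.IsRoot.def, Polynomial.eval_add, Polynomial.eval_mul, Polynomial.eval_pow, Polynomial.eval_X,
    Polynomial.eval_C] at hθ₀
  have hg₀ : 2 * θ₀ + χ₃ β ≠ 0 := fun h0 => by
    refine hΔ ((hχ _).1 ?_)
    have hsq : 4 * χ₃ γ - χ₃ β ^ 2 = 0 := by linear_combination 4 * hθ₀ - (2 * θ₀ + χ₃ β) * h0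
    rw [show χ (4 * A * C' - B' ^ 2) = χ₃ (algebraMap P' P₃ A) ^ 2 * (4 * χ₃ γ - χ₃ β ^ 2) by
      simp only [β, γ, map_sub, map_mul, map_pow, map_ofNat, ← hχ₃, ← hAu]
      have e1 : χ₃ ↑Au * χ₃ ↑Au⁻¹ = 1 := by rw [← map_mul, Au.mul_inv, map_one]
      linear_combination -4 * χ₃ ↑Au * χ₃ (algebraMap P' P₃ C') * e1 +
        χ₃ (algebraMap P' P₃ B') ^ 2 * (χ₃ ↑Au * χ₃ ↑Au⁻¹ + 1) * e1, hsq, mul_zero]
  have hmap : S.HasMap θ₀ := by
    refine ⟨?_, ?_⟩
    · simpa [S, RingHom.algebraMap_toAlgebra] using hθ₀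
    · rw [isUnit_iff_ne_zero]
      simpa [S, RingHom.algebraMap_toAlgebra,
        show Polynomial.aeval θ₀ (2 : Polynomial P₃) = (2 : K₀) from map_ofNat _ 2] using hg₀
  let χ₄ : P₄ →ₐ[P₃] K₀ := S.lift θ₀ hmap
  have hχ₄ : ∀ w, χ₄ (algebraMap P' P₄ w) = χ w := fun w => by
    rw [IsScalarTower.algebraMap_apply P' P₃ P₄, χ₄.commutes]
    exact hχ₃ w
  have hχU : ∀ i, χ₄ (U₄ i) = 0 := fun i => (hχ₄ _).trans ((hχ _).2 (hU i))
  let Δ₄ : P₄ := (Matrix.of fun i j => pd b₄ i (L j)).det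
  have hΔ₄ : χ₄ Δ₄ ≠ 0 := by
    have hval : χ₄ Δ₄ = χ₃ α * (2 * θ₀ + χ₃ β) * χ (Matrix.of fun i j => pd b' i (U j)).det := by
      have hA₃ : ∀ z, χ₄ (algebraMap P₃ P₄ z) = χ₃ z := fun z => χ₄.commutes z
      simp only [Δ₄, Matrix.det_fin_two, Matrix.of_apply, L, Matrix.cons_val_zero, Matrix.cons_val_one,
        Matrix.cons_val_fin_one, Derivation.leibniz, map_add, map_sub, smul_eq_mul, map_mul, U₄, hb₄, hχ₄,
        hA₃, show χ₄ θ = θ₀ from S.lift_X θ₀ hmap, show ∀ i, χ (U i) = 0 from fun i => (hχ _).2 (hU i)]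
      ring
    rw [hval]
    refine mul_ne_zero (mul_ne_zero ?_ hg₀) (isUnit_iff_ne_zero.1 (hUdet.map χ))
    rw [← isUnit_iff_ne_zero]
    refine IsUnit.map χ₃ ?_
    simp only [α, ← hAu]
    exact ((Au.isUnit.mul εu⁻¹.isUnit).mul εu⁻¹.isUnit)
  let P₅ := Localization.Away Δ₄
  haveI : Algebra.Etale P₄ P₅ := Algebra.Etale.of_isLocalizationAway Δ₄
  obtain ⟨b₅, hb₅, -⟩ := exists_basis_etale (R := C) (Q := P₅) b₄
  haveI : Algebra.Smooth C P₄ := Algebra.Smooth.comp C P' P₄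
  haveI : Algebra.Smooth C P₅ := Algebra.Smooth.comp C P₄ P₅
  let L₅ : Fin 2 → P₅ := fun i => algebraMap P₄ P₅ (L i)
  have hψ : (MvPolynomial.aeval L₅ : MvPolynomial (Fin 2) C →ₐ[C] P₅).toRingHom.Etale := by
    refine etale_of_det b₅ L₅ ?_
    have hu : IsUnit (algebraMap P₄ P₅ Δ₄) := IsLocalization.Away.algebraMap_isUnit Δ₄
    rw [RingHom.map_det] at hu
    have hM : (algebraMap P₄ P₅).mapMatrix (Matrix.of fun i j => pd b₄ i (L j)) =
        Matrix.of fun i j => pd b₅ i (L₅ j) := Matrix.ext fun i j => by simp [L₅, hb₅]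
    rw [hM] at hu
    exact hu
  let ι : P →+* P₅ := (algebraMap P₄ P₅).comp ((algebraMap P' P₄).comp (algebraMap P P'))
  have hι : ι.Etale := RingHom.Etale.stableUnderComposition _ _
    (RingHom.Etale.stableUnderComposition _ _ (RingHom.etale_algebraMap.2 (inferInstance : Algebra.Etale P P'))
      (RingHom.etale_algebraMap.2 (inferInstance : Algebra.Etale P' P₄)))
    (RingHom.etale_algebraMap.2 (inferInstance : Algebra.Etale P₄ P₅))
  let J : Ideal P₅ := Ideal.span {ι F}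
  have hJ : J = (Ideal.span {(MvPolynomial.X 0 * MvPolynomial.X 1 - MvPolynomial.C (-c F) :
      MvPolynomial (Fin 2) C)}).map (MvPolynomial.aeval L₅ : MvPolynomial (Fin 2) C →ₐ[C] P₅).toRingHom := by
    rw [Ideal.map_span, Set.image_singleton]
    refine congrArg (fun z => Ideal.span {z}) ?_
    show ι F = MvPolynomial.aeval L₅ _
    rw [map_sub, map_mul, MvPolynomial.aeval_X, MvPolynomial.aeval_X, MvPolynomial.aeval_C, map_neg, sub_neg_eq_add,
      ← map_mul, hLL, IsScalarTower.algebraMap_apply C P₄ P₅, ← map_add, IsScalarTower.algebraMap_apply C P' P₄,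
      ← map_add, sub_add_cancel]
    rfl
  let em := Ideal.quotientMap J (MvPolynomial.aeval L₅ : MvPolynomial (Fin 2) C →ₐ[C] P₅).toRingHom
    (hJ ▸ Ideal.le_comap_map : Ideal.span _ ≤ J.comap _)
  have hJ' : J = (Ideal.span {F}).map ι := by rw [Ideal.map_span, Set.image_singleton]
  let qι := Ideal.quotientMap J ι (hJ' ▸ Ideal.le_comap_map : Ideal.span _ ≤ J.comap ι)
  let χ₅ : P₅ →+* K₀ := IsLocalization.Away.lift Δ₄ (g := χ₄.toRingHom) (isUnit_iff_ne_zero.2 hΔ₄)
  have hχι : ∀ p, χ₅ (ι p) = χ (algebraMap P P' p) := fun p =>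
    (IsLocalization.Away.lift_eq _ _ _).trans (hχ₄ _)
  have hχp : ∀ p, χ₅ (ι p) = 0 ↔ p ∈ 𝔓 := fun p => by
    rw [hχι, hχ]
    show c' (algebraMap P P' p) ∈ 𝔓C ↔ _
    rw [hc', hC𝔓]
  let χQ : P₅ ⧸ J →+* K₀ := Ideal.Quotient.lift J χ₅ fun w hw => by
    obtain ⟨r, rfl⟩ := Ideal.mem_span_singleton'.1 hw
    rw [map_mul, (hχp F).2 hF, mul_zero]
  refine ⟨C, P₅ ⧸ J, inferInstance, inferInstance, algebraMap R C, qι.comp φ.toRingHom,
    (Ideal.Quotient.mk J).comp (algebraMap C P₅), -c F, em, RingHom.ker χQ, RingHom.ker_isPrime χQ,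
    RingHom.etale_algebraMap.2 inferInstance,
    RingHom.Etale.stableUnderComposition _ _ hφ (etale_quotientMap ι hι _ J hJ'),
    etale_quotientMap _ hψ _ J hJ, ?_, ?_, ?_⟩
  · refine RingHom.ext fun r => ?_
    show qι (φ (algebraMap R B r)) = Ideal.Quotient.mk J (algebraMap C P₅ (algebraMap R C r))
    rw [φ.commutes]
    show Ideal.Quotient.mk J (ι (algebraMap R P r)) = _
    congr 1
    show algebraMap P₄ P₅ (algebraMap P' P₄ (algebraMap P P' (algebraMap R P r))) = _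
    rw [IsScalarTower.algebraMap_apply C P₄ P₅, IsScalarTower.algebraMap_apply C P' P₄,
      ← IsScalarTower.algebraMap_apply R P P', ← IsScalarTower.algebraMap_apply R C P']
  · refine RingHom.ext fun x => ?_
    show Ideal.Quotient.mk J (MvPolynomial.aeval L₅ (MvPolynomial.C x)) = _
    rw [MvPolynomial.aeval_C]
    rfl
  · rw [← hQ₀, ← Ideal.comap_comap]
    congr 1
    ext w
    obtain ⟨p, rfl⟩ := Ideal.Quotient.mk_surjective w
    show χ₅ (ι p) = 0 ↔ _
    rw [hχp]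
    rfl

end Groth.Agent.NodePtLib.EtaleLocal
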