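import Groth.Agent.NodePtLib.EtaleLocal.Model
import Groth.Agent.NodePtLib.QuadNode
import Groth.Agent.FlatLocus.FibreStalk
import Groth.Agent.GeomRedPtLib.Basic

/-!
# Nodes of families in affine charts
-/

set_option autoImplicit false
set_option backward.isDefEq.respectTransparency false
set_option linter.unusedSectionVars false
set_option linter.style.haveILetI false

universe u

open CategoryTheory CategoryTheory.Limits AlgebraicGeometry IsLocalRing

noncomputable section

namespace Groth.Agent.NodePtLib.EtaleLocal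

attribute [local instance] Curv2.stalkAlgebra

variable {X S : Scheme.{u}} (f : X ⟶ S) [LocallyOfFiniteType f]

/-- The residue homomorphism of a section on an affine chart at a point of a fibre. -/
theorem section_to_fibre_stalk (s : S) (z : f.fiber s) {V : S.Opens} (hV : IsAffineOpen V) {U : X.Opens}
    (hU : IsAffineOpen U) (hUV : U ≤ f ⁻¹ᵁ V) (hz : f.fiberι s z ∈ U) (hs : s ∈ V) :
    letI : (f.fiber s).Over (Spec (CommRingCat.of (S.residueField s))) := ⟨f.fiberToSpecResidueField s⟩
    f.appLE V U hUV ≫ X.presheaf.germ U _ hz ≫ (f.fiberι s).stalkMap z =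
      S.presheaf.germ V s hs ≫ S.residue s ≫
        CommRingCat.ofHom (algebraMap (S.residueField s) ((f.fiber s).presheaf.stalk z)) := by
  letI : (f.fiber s).Over (Spec (CommRingCat.of (S.residueField s))) := ⟨f.fiberToSpecResidueField s⟩
  refine Spec.map_injective ?_
  rw [← cancel_mono hV.fromSpec, Spec.map_comp, Spec.map_comp, Spec.map_comp, Spec.map_comp]
  simp only [Category.assoc]
  have h1 : Spec.map (S.presheaf.germ V s hs) ≫ hV.fromSpec = S.fromSpecStalk s :=
    hV.fromSpecStalk_eq_fromSpecStalk hs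
  have h2 : Spec.map (X.presheaf.germ U _ hz) ≫ hU.fromSpec = X.fromSpecStalk (f.fiberι s z) :=
    hU.fromSpecStalk_eq_fromSpecStalk hz
  rw [IsAffineOpen.SpecMap_appLE_fromSpec f hV hU hUV, reassoc_of% h2,
    Scheme.SpecMap_stalkMap_fromSpecStalk_assoc, h1]
  have h3 : Spec.map (S.residue s) ≫ S.fromSpecStalk s = S.fromSpecResidueField s := rfl
  rw [h3, f.fiber_fac s]
  exact (Category.assoc _ _ _).symm.trans (congrArg (· ≫ S.fromSpecResidueField s)
    (GeomRedPtLib.fromSpecStalk_over (k := S.residueField s) (X := f.fiber s) z))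

/-- The ring-theoretic data of a node of a fibre. -/
theorem nodeData (s : S) (z : f.fiber s) {V : S.Opens} (hV : IsAffineOpen V) {U : X.Opens}
    (hU : IsAffineOpen U) (hUV : U ≤ f ⁻¹ᵁ V) (hz : f.fiberι s z ∈ U) (hs : s ∈ V)
    (hn : @Curv2.IsNode (S.residueField s) _ (f.fiber s) ⟨f.fiberToSpecResidueField s⟩ z) :
    letI := (f.appLE V U hUV).hom.toAlgebra
    NodeData Γ(S, V) (hU.primeIdealOf ⟨_, hz⟩).asIdeal := by
  letI : (f.fiber s).Over (Spec (CommRingCat.of (S.residueField s))) := ⟨f.fiberToSpecResidueField s⟩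
  haveI : LocallyOfFiniteType (f.fiber s ↘ Spec (CommRingCat.of (S.residueField s))) :=
    inferInstanceAs (LocallyOfFiniteType (pullback.snd f _))
  obtain ⟨hsep, hred, hq⟩ := (isNode_iff_quadPt (k := S.residueField s) (x := z) hn.1).1 hn
  haveI := hsep
  let R := Γ(S, V)
  let B := Γ(X, U)
  letI := (f.appLE V U hUV).hom.toAlgebra
  let x₀ := f.fiberι s z
  let 𝔭 := (hU.primeIdealOf ⟨x₀, hz⟩).asIdeal
  let A := (f.fiber s).presheaf.stalk z
  let k := S.residueField s
  let Bp := Localization.AtPrime 𝔭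
  letI : Algebra B (X.presheaf.stalk x₀) := TopCat.Presheaf.algebra_section_stalk X.presheaf ⟨x₀, hz⟩
  haveI : IsLocalization.AtPrime (X.presheaf.stalk x₀) 𝔭 := hU.isLocalization_stalk ⟨x₀, hz⟩
  let σ : Bp ≃ₐ[B] X.presheaf.stalk x₀ := IsLocalization.algEquiv 𝔭.primeCompl Bp (X.presheaf.stalk x₀)
  let φ : X.presheaf.stalk x₀ →+* A := ((f.fiberι s).stalkMap z).hom
  let ρ : Bp →+* A := φ.comp σ.toRingEquiv.toRingHom
  have hρ : Function.Surjective ρ := (FlatLocus.fiberι_stalkMap_surjective f s z).comp σ.surjective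
  haveI : IsLocalHom ρ := IsLocalHom.of_surjective ρ hρ
  have hsec : ∀ r : R, ρ (algebraMap R Bp r) =
      algebraMap k A (S.residue s (S.presheaf.germ V s hs r)) := fun r => by
    have h := congrArg (fun g => g.hom r) (section_to_fibre_stalk f s z hV hU hUV hz hs)
    refine Eq.trans ?_ h
    show φ (σ (algebraMap B Bp (f.appLE V U hUV r))) = _
    rw [σ.commutes]
    rfl
  refine ⟨?_, A, inferInstance, inferInstance, ρ, hρ, ?_, hred, hq⟩
  · letI : Algebra R (S.presheaf.stalk s) := TopCat.Presheaf.algebra_section_stalk S.presheaf ⟨s, hs⟩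
    haveI : IsLocalization.AtPrime (S.presheaf.stalk s) (hV.primeIdealOf ⟨s, hs⟩).asIdeal :=
      hV.isLocalization_stalk ⟨s, hs⟩
    haveI : Algebra.FormallyUnramified R (S.presheaf.stalk s) :=
      Algebra.FormallyUnramified.of_isLocalization (hV.primeIdealOf ⟨s, hs⟩).asIdeal.primeCompl
    letI : Algebra R k := ((S.residue s).hom.comp (algebraMap R (S.presheaf.stalk s))).toAlgebra
    haveI : Algebra.FormallyUnramified R k :=
      Algebra.FormallyUnramified.of_surjective (A := S.presheaf.stalk s)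
        ({ (S.residue s).hom with commutes' := fun r => rfl } : S.presheaf.stalk s →ₐ[R] k)
        (Ideal.Quotient.mk_surjective)
    let κA := ResidueField A
    letI : Algebra R κA := ((algebraMap k κA).comp (algebraMap R k)).toAlgebra
    haveI : IsScalarTower R k κA := IsScalarTower.of_algebraMap_eq' rfl
    haveI : Algebra.FormallyUnramified k κA := Algebra.FormallyUnramified.of_isSeparable k κA
    haveI : Algebra.FormallyUnramified R κA := Algebra.FormallyUnramified.comp R k κA
    let μ : ResidueField Bp →+* κA := ResidueField.map ρ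
    have hμ : Function.Bijective μ := ⟨RingHom.injective _, fun w => by
      obtain ⟨w, rfl⟩ := residue_surjective w
      obtain ⟨w, rfl⟩ := hρ w
      exact ⟨residue Bp w, rfl⟩⟩
    let E : ResidueField Bp ≃ₐ[R] κA :=
      { RingEquiv.ofBijective μ hμ with
        commutes' := fun r => by
          show μ (algebraMap R (ResidueField Bp) r) = algebraMap k κA (algebraMap R k r)
          rw [IsScalarTower.algebraMap_apply R Bp (ResidueField Bp), IsScalarTower.algebraMap_apply k A κA]
          show residue A (ρ (algebraMap R Bp r)) = _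
          rw [hsec]
          rfl }
    exact Algebra.FormallyUnramified.of_equiv E.symm
  · let q : Ideal R := 𝔭.comap (algebraMap R B)
    letI : Algebra R (S.presheaf.stalk (f x₀)) := TopCat.Presheaf.algebra_section_stalk S.presheaf ⟨f x₀, hUV hz⟩
    haveI : IsLocalization.AtPrime (S.presheaf.stalk (f x₀)) (hV.primeIdealOf ⟨f x₀, hUV hz⟩).asIdeal :=
      hV.isLocalization_stalk ⟨f x₀, hUV hz⟩
    let ψ : S.presheaf.stalk (f x₀) →+* X.presheaf.stalk x₀ := (f.stalkMap x₀).hom
    have hψ : ∀ r : R, ψ (algebraMap R _ r) = algebraMap B (X.presheaf.stalk x₀) (algebraMap R B r) := fun r => by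
      show f.stalkMap x₀ (S.presheaf.germ V (f x₀) (hUV hz) r) = X.presheaf.germ U x₀ hz (f.appLE V U hUV r)
      rw [Scheme.Hom.germ_stalkMap_apply, Scheme.Hom.appLE, CommRingCat.comp_apply, TopCat.Presheaf.germ_res_apply]
    have hloc : IsLocalHom ψ := f.toLRSHom.prop x₀
    have hq' : (hV.primeIdealOf ⟨f x₀, hUV hz⟩).asIdeal = q := by
      ext r
      rw [← IsLocalization.AtPrime.to_map_mem_maximal_iff (S.presheaf.stalk (f x₀))
          (hV.primeIdealOf ⟨f x₀, hUV hz⟩).asIdeal, Ideal.mem_comap,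
        ← IsLocalization.AtPrime.to_map_mem_maximal_iff (X.presheaf.stalk x₀) 𝔭, ← hψ]
      simp only [mem_maximalIdeal, mem_nonunits_iff]
      exact not_congr ⟨fun h => h.map ψ, fun h => isUnit_of_map_unit ψ _ h⟩
    have hm : maximalIdeal (S.presheaf.stalk (f x₀)) = q.map (algebraMap R _) := by
      rw [← hq']
      exact (IsLocalization.AtPrime.map_eq_maximalIdeal _ _).symm
    ext w
    rw [RingHom.mem_ker]
    show φ (σ w) = 0 ↔ _
    rw [← RingHom.mem_ker, FlatLocus.ker_fiberι_stalkMap, show maximalIdeal (S.presheaf.stalk (f (f.fiberι s z))) = _ from hm,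
      Ideal.map_map]
    have he : ψ.comp (algebraMap R (S.presheaf.stalk (f x₀))) = σ.toRingEquiv.toRingHom.comp (algebraMap R Bp) := by
      refine RingHom.ext fun r => ?_
      show ψ (algebraMap R _ r) = σ (algebraMap R Bp r)
      rw [hψ, IsScalarTower.algebraMap_apply R B Bp, σ.commutes]
    show σ w ∈ Ideal.map (ψ.comp (algebraMap R (S.presheaf.stalk (f x₀)))) q ↔ _
    rw [he, ← Ideal.map_map]
    constructor
    · intro h
      obtain ⟨w', hw', e⟩ := (Ideal.mem_map_iff_of_surjective σ.toRingEquiv.toRingHom σ.surjective).1 h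
      rwa [← σ.injective e]
    · exact fun h => Ideal.mem_map_of_mem σ.toRingEquiv.toRingHom h

/-- The pushout square of the universal node and a model. -/
theorem isPushout_model {R' : Type u} [CommRing R'] (a : R') :
    ∃ r : CommRingCat.of (MvPolynomial (Fin 3) (ULift.{u} ℤ) ⧸ Ideal.span
        {(MvPolynomial.X 0 * MvPolynomial.X 1 - MvPolynomial.X 2 : MvPolynomial (Fin 3) (ULift.{u} ℤ))}) ⟶
      CommRingCat.of (MvPolynomial (Fin 2) R' ⧸
        Ideal.span {(MvPolynomial.X 0 * MvPolynomial.X 1 - MvPolynomial.C a : MvPolynomial (Fin 2) R')}),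
    IsPushout (CommRingCat.ofHom ((Ideal.Quotient.mk _).comp
        (MvPolynomial.aeval (fun _ : Fin 1 => (MvPolynomial.X 2 : MvPolynomial (Fin 3) (ULift.{u} ℤ)))).toRingHom))
      (CommRingCat.ofHom (MvPolynomial.eval₂Hom ((Int.castRingHom R').comp ULift.ringEquiv.toRingHom)
        (fun _ : Fin 1 => a)))
      r (CommRingCat.ofHom ((Ideal.Quotient.mk _).comp MvPolynomial.C)) := by
  let Z := ULift.{u} ℤ
  have hZ : ∀ {T : Type u} [CommRing T] (g g' : Z →+* T), g = g' := fun g g' => by
    refine RingHom.ext fun n => ?_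
    have h := RingHom.congr_fun (Subsingleton.elim (g.comp (ULift.ringEquiv.symm : ℤ ≃+* Z).toRingHom)
      (g'.comp (ULift.ringEquiv.symm : ℤ ≃+* Z).toRingHom)) n.down
    exact h
  have hZ' : ∀ {T : Type u} [CommRing T] (g g' : MvPolynomial (Fin 3) Z →+* T) (n : Z),
      g (MvPolynomial.C n) = g' (MvPolynomial.C n) := fun g g' n =>
    RingHom.congr_fun (hZ (g.comp MvPolynomial.C) (g'.comp MvPolynomial.C)) n
  let I₂ : Ideal (MvPolynomial (Fin 2) R') :=
    Ideal.span {(MvPolynomial.X 0 * MvPolynomial.X 1 - MvPolynomial.C a : MvPolynomial (Fin 2) R')}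
  let I₃ : Ideal (MvPolynomial (Fin 3) Z) :=
    Ideal.span {(MvPolynomial.X 0 * MvPolynomial.X 1 - MvPolynomial.X 2 : MvPolynomial (Fin 3) Z)}
  let W₀ := MvPolynomial (Fin 2) R' ⧸ I₂
  let cW : R' →+* W₀ := (Ideal.Quotient.mk I₂).comp MvPolynomial.C
  let r₀ : MvPolynomial (Fin 3) Z →+* W₀ := MvPolynomial.eval₂Hom
    (cW.comp ((Int.castRingHom R').comp ULift.ringEquiv.toRingHom))
    ![Ideal.Quotient.mk I₂ (MvPolynomial.X 0), Ideal.Quotient.mk I₂ (MvPolynomial.X 1), cW a]
  have hr₀ : ∀ w ∈ I₃, r₀ w = 0 := fun w hw => by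
    obtain ⟨w', rfl⟩ := Ideal.mem_span_singleton'.1 hw
    rw [map_mul, map_sub, map_mul, MvPolynomial.eval₂Hom_X', MvPolynomial.eval₂Hom_X', MvPolynomial.eval₂Hom_X']
    show r₀ w' * (Ideal.Quotient.mk I₂ (MvPolynomial.X 0) * Ideal.Quotient.mk I₂ (MvPolynomial.X 1) -
      Ideal.Quotient.mk I₂ (MvPolynomial.C a)) = 0
    rw [← map_mul, ← map_sub, Ideal.Quotient.eq_zero_iff_mem.2 (Ideal.mem_span_singleton_self _), mul_zero]
  let r : CommRingCat.of (MvPolynomial (Fin 3) Z ⧸ I₃) ⟶ CommRingCat.of W₀ :=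
    CommRingCat.ofHom (R := MvPolynomial (Fin 3) Z ⧸ I₃) (S := W₀) (Ideal.Quotient.lift I₃ r₀ hr₀)
  have hrX : ∀ i, r.hom (Ideal.Quotient.mk I₃ (MvPolynomial.X i)) =
      ![Ideal.Quotient.mk I₂ (MvPolynomial.X 0), Ideal.Quotient.mk I₂ (MvPolynomial.X 1), cW a] i :=
    fun i => MvPolynomial.eval₂Hom_X' _ _ i
  refine ⟨r, ?_⟩
  have hcomm : CommRingCat.ofHom ((Ideal.Quotient.mk I₃).comp
        (MvPolynomial.aeval (fun _ : Fin 1 => (MvPolynomial.X 2 : MvPolynomial (Fin 3) Z))).toRingHom) ≫
        r =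
      CommRingCat.ofHom (MvPolynomial.eval₂Hom ((Int.castRingHom R').comp ULift.ringEquiv.toRingHom)
        (fun _ : Fin 1 => a)) ≫ CommRingCat.ofHom cW := by
    refine CommRingCat.hom_ext (MvPolynomial.ringHom_ext (fun n => RingHom.congr_fun (hZ
      ((((CommRingCat.ofHom ((Ideal.Quotient.mk I₃).comp
        (MvPolynomial.aeval (fun _ : Fin 1 => (MvPolynomial.X 2 : MvPolynomial (Fin 3) Z))).toRingHom) ≫
        r)).hom).comp MvPolynomial.C)
      ((((CommRingCat.ofHom (MvPolynomial.eval₂Hom ((Int.castRingHom R').comp ULift.ringEquiv.toRingHom)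
        (fun _ : Fin 1 => a)) ≫ CommRingCat.ofHom cW)).hom).comp MvPolynomial.C)) n) fun i => ?_)
    show r.hom (Ideal.Quotient.mk I₃ (MvPolynomial.aeval (fun _ : Fin 1 => (MvPolynomial.X 2 : MvPolynomial (Fin 3) Z))
      (MvPolynomial.X i))) = cW (MvPolynomial.eval₂Hom _ _ (MvPolynomial.X i))
    rw [MvPolynomial.aeval_X, MvPolynomial.eval₂Hom_X']
    exact hrX 2
  refine IsPushout.of_isColimit' ⟨hcomm⟩ (PushoutCocone.IsColimit.mk _
    (fun c => CommRingCat.ofHom (Ideal.Quotient.lift I₂ (MvPolynomial.eval₂Hom c.inr.hom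
      ![c.inl.hom (Ideal.Quotient.mk I₃ (MvPolynomial.X 0)), c.inl.hom (Ideal.Quotient.mk I₃ (MvPolynomial.X 1))])
      fun w hw => by
        obtain ⟨w', rfl⟩ := Ideal.mem_span_singleton'.1 hw
        have h1 : c.inl.hom (Ideal.Quotient.mk I₃ (MvPolynomial.X 2)) = c.inr.hom a := by
          have h := congrArg (fun g => g.hom (MvPolynomial.X (0 : Fin 1))) c.condition
          simpa using h
        rw [map_mul, map_sub, map_mul, MvPolynomial.eval₂Hom_X', MvPolynomial.eval₂Hom_X', MvPolynomial.eval₂Hom_C]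
        simp only [Matrix.cons_val_zero, Matrix.cons_val_one, Matrix.cons_val_fin_one]
        rw [← map_mul, ← h1, ← map_sub, ← map_mul, ← map_sub,
          Ideal.Quotient.eq_zero_iff_mem.2 (Ideal.mem_span_singleton_self _), map_zero, mul_zero]))
    ?_ ?_ ?_)
  · intro c
    refine CommRingCat.hom_ext (Ideal.Quotient.ringHom_ext
      (MvPolynomial.ringHom_ext (fun n => hZ' _ _ n) fun i => ?_))
    fin_cases i
    · exact (congrArg _ (hrX 0)).trans (MvPolynomial.eval₂Hom_X' _ _ 0)
    · exact (congrArg _ (hrX 1)).trans (MvPolynomial.eval₂Hom_X' _ _ 1)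
    · have h := congrArg (fun g => g.hom (MvPolynomial.X (0 : Fin 1))) c.condition
      simp at h
      exact ((congrArg _ (hrX 2)).trans (MvPolynomial.eval₂Hom_C _ _ a)).trans h.symm
  · intro c
    exact CommRingCat.hom_ext (RingHom.ext fun x => MvPolynomial.eval₂Hom_C _ _ x)
  · intro c m h1 h2
    refine CommRingCat.hom_ext (Ideal.Quotient.ringHom_ext (MvPolynomial.ringHom_ext (fun x => ?_) fun i => ?_))
    · exact (congrArg (fun g => g.hom x) h2).trans (MvPolynomial.eval₂Hom_C _ _ x).symm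
    · fin_cases i
      · exact ((congrArg m.hom (hrX 0)).symm.trans
          (congrArg (fun g => g.hom (Ideal.Quotient.mk I₃ (MvPolynomial.X 0))) h1)).trans
          (MvPolynomial.eval₂Hom_X' _ _ 0).symm
      · exact ((congrArg m.hom (hrX 1)).symm.trans
          (congrArg (fun g => g.hom (Ideal.Quotient.mk I₃ (MvPolynomial.X 1))) h1)).trans
          (MvPolynomial.eval₂Hom_X' _ _ 1).symm

end Groth.Agent.NodePtLib.EtaleLocal
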