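import Groth.Agent.NodePtLib.MaxOpen
import Groth.Agent.ChevalleyOpen.Comps
import Groth.Agent.S2768
import Groth.Agent.RelPCLib.SmoothPush

/-!
# Fibre dimensions of nodal families and coordinates at smooth points
-/

set_option autoImplicit false
set_option backward.isDefEq.respectTransparency false
set_option linter.unusedSectionVars false
set_option linter.style.haveILetI false

universe u

open CategoryTheory CategoryTheory.Limits AlgebraicGeometry IsLocalRing

noncomputable section

namespace Groth.Agent.NodePtLib.EtaleLocal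

variable {X S : Scheme.{u}} (f : X ⟶ S) [LocallyOfFiniteType f]

theorem fibreDimAt_of_comps (hc : ∀ s : S, NodalLib.Comps1 (f.fiber s)) (x : X) :
    FlatMor.fibreDimAt f x = 1 := by
  have h := ChevalleyOpen.fibreDimAt_eq_of_components f 1 (fun x' Z hZ => by
    rw [Nat.cast_one]; exact hc (f x') Z hZ) x
  rwa [Nat.cast_one] at h

theorem comps_of_fibreDimAt (h : ∀ x : X, FlatMor.fibreDimAt f x = 1) (s : S) : NodalLib.Comps1 (f.fiber s) := by
  intro Z hZ
  obtain ⟨z, rfl, hz⟩ := DimFormulaLib.exists_generic_of_mem_irreducibleComponents hZ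
  haveI : LocallyOfFiniteType (f.fiberToSpecResidueField s) := MorphismProperty.pullback_snd _ _ inferInstance
  rw [← ChevalleyOpen.localDim_eq_of_max (k := S.residueField s) (f.fiberToSpecResidueField s) z hz]
  have hfx : f (f.fiberι s z) = s := by
    have : f.fiberι s z ∈ f ⁻¹' {s} := by rw [← f.range_fiberι s]; exact ⟨z, rfl⟩
    exact this
  have gen : ∀ (s' : S) (_ : s' = s) (z' : f.fiber s'), f.fiberι s' z' = f.fiberι s z →
      FlatMor.localDim (f.fiber s') z' = FlatMor.localDim (f.fiber s) z := by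
    intro s' e z' hz'
    subst e
    rw [(f.fiberι _).isEmbedding.injective hz']
  exact (gen _ hfx _ (f.fiberι_asFiber _)).symm.trans (h (f.fiberι s z))

omit [LocallyOfFiniteType f] in
theorem localFibreDim_eq (x : X) : Dual3.localFibreDim f x = FlatMor.fibreDimAt f x :=
  le_antisymm (le_iInf fun U => (iInf₂_le U.1 U.2 : _)) (le_iInf₂ fun U hU =>
    iInf_le (fun U : {U : TopologicalSpace.Opens ↥(f.fiber (f x)) // f.asFiber x ∈ U} =>
      topologicalKrullDim (U.1 : Set ↥(f.fiber (f x)))) ⟨U, hU⟩)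

/-- A smooth point of a family of curves has a chart which is étale over the line. -/
theorem exists_etale_line (hc : ∀ s : S, NodalLib.Comps1 (f.fiber s)) (x : X)
    (hs : ∃ U : X.Opens, x ∈ U ∧ Smooth (U.ι ≫ f)) :
    ∃ (V : S.Opens) (W : X.Opens) (_ : IsAffineOpen V) (_ : IsAffineOpen W) (e : W ≤ f ⁻¹ᵁ V) (_ : x ∈ W)
      (g : MvPolynomial (Fin 1) Γ(S, V) →+* Γ(X, W)), g.comp MvPolynomial.C = (f.appLE V W e).hom ∧ g.Etale := by
  obtain ⟨U, hxU, hsm⟩ := hs
  haveI := hsm
  obtain ⟨V, hV, W, hW, hxW, e, hstd⟩ := Smooth.exists_isStandardSmooth (U.ι ≫ f) ⟨x, hxU⟩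
  obtain ⟨n, hn⟩ : ∃ n, RingHom.IsStandardSmoothOfRelativeDimension n ((U.ι ≫ f).appLE V W e).hom := by
    algebraize [((U.ι ≫ f).appLE V W e).hom]
    obtain ⟨ι, σ, i1, i2, ⟨P⟩⟩ := Algebra.IsStandardSmooth.out (R := Γ(S, V)) (S := Γ(U.toScheme, W))
    exact ⟨P.dimension, P.isStandardSmoothOfRelativeDimension rfl⟩
  let W' : X.Opens := U.ι ''ᵁ W
  have hW' : IsAffineOpen W' := hW.image_of_isOpenImmersion _
  have e' : W' ≤ f ⁻¹ᵁ V := (U.ι.image_mono e).trans (by
    rw [Scheme.Hom.comp_preimage, Scheme.Hom.image_preimage_eq_opensRange_inf]; exact inf_le_right)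
  have hxW' : x ∈ W' := ⟨⟨x, hxU⟩, hxW, rfl⟩
  have hn' : RingHom.IsStandardSmoothOfRelativeDimension n (f.appLE V W' e').hom := by
    rw [Scheme.Hom.comp_appLE, Scheme.Opens.ι_appLE] at hn
    simp only [Scheme.Hom.appLE]
    exact hn
  let g := W'.ι ≫ f
  haveI : SmoothOfRelativeDimension n g := by
    haveI : IsAffine W'.toScheme := hW'
    refine ⟨fun v => ⟨V, hV, ⊤, isAffineOpen_top _, trivial, fun w _ => e' w.2, ?_⟩⟩
    have : g.appLE V ⊤ (fun w _ => e' w.2) = f.appLE V W' e' ≫ W'.topIso.inv := by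
      simp only [g, Scheme.Hom.appLE, Scheme.Hom.comp_app, Scheme.Opens.ι_app, Category.assoc,
        Scheme.Opens.topIso_inv]
      erw [← X.presheaf.map_comp, ← X.presheaf.map_comp]
      congr 1
    rw [this]
    exact RingHom.isStandardSmoothOfRelativeDimension_respectsIso.1 _ W'.topIso.symm.commRingCatIsoToRingEquiv hn'
  have hcW : ∀ s : S, NodalLib.Comps1 ((W'.ι ≫ f).fiber s) := fun s => by
    haveI : LocallyOfFiniteType (f.fiberToSpecResidueField s) := MorphismProperty.pullback_snd _ _ inferInstance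
    haveI : Etale (NodalLib.fibreMap f W'.ι s) :=
      MorphismProperty.of_isPullback (P := @Etale) (NodalLib.isPullback_fibreMap f W'.ι s).flip inferInstance
    exact NodalLib.comps1_of_etale (f.fiberToSpecResidueField s) (NodalLib.fibreMap f W'.ι s) (hc s)
  have hn1 : n = 1 := by
    have h1 := fibreDimAt_of_comps g hcW ⟨x, hxW'⟩
    have h2 : FlatMor.fibreDimAt g (⟨x, hxW'⟩ : W'.toScheme) = (n : WithBot ℕ∞) := Groth.Agent.S2768.result n g _
    rw [h2] at h1
    exact_mod_cast h1
  subst hn1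
  obtain ⟨g₁, hg₁, hg₁'⟩ := hn'.exists_etale_mvPolynomial
  exact ⟨V, W', hV, hW', e', hxW', g₁, hg₁, hg₁'⟩

end Groth.Agent.NodePtLib.EtaleLocal
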